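import Cfsg.Agent.H59.Fischer.Sylow
import Cfsg.Agent.H33.FiLocal.Thompson

/-!
The subgroup of lifts seen in the whole group is conjugate to the Thompson subgroup.
-/

set_option autoImplicit false
set_option maxRecDepth 100000

namespace H59.Fi24

open H16.Fi24

universe u

variable {G : Type u} [Group G] [Finite G] {z : G}
  {Q : Subgroup (Subgroup.centralizer ({z} : Set G))}

/-- The subgroup of lifts in the whole group. -/
def AG (D : Model z Q) : Subgroup G := (CC D).map (Subgroup.centralizer ({z} : Set G)).subtype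

theorem card_AG [Q.Normal] (D : Model z Q) (hz : orderOf z = 2) : Nat.card (AG D) = 2 ^ 11 := by
  rw [AG, Subgroup.card_map_of_injective
    (f := (Subgroup.centralizer ({z} : Set G)).subtype) (Subgroup.subtype_injective _), card_CC D hz]
  norm_num

theorem ea_AG [Q.Normal] (D : Model z Q) (hz : orderOf z = 2) : Cfsg.IsElementaryAbelian 2 (AG D) :=
  H33.FiLocal.ea_map _ (ea_iff.2 (elem_CC D hz))

theorem AG_le (D : Model z Q) : AG D ≤ Subgroup.centralizer ({z} : Set G) := Subgroup.map_subtype_le _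

theorem z_mem_AG (D : Model z Q) (hz : orderOf z = 2) : z ∈ AG D := by
  have hz1 : z ≠ 1 := fun h => by rw [h, orderOf_one] at hz; omega
  obtain ⟨zh, hzQ, hzv, hzΦ, -⟩ := z_mem D hz1
  exact ⟨zh, ((CC_inf_Q D).ge ⟨hzQ, by rw [hzΦ]; exact inU_zero⟩).1, hzv⟩

theorem mem_AG (D : Model z Q) {x : Subgroup.centralizer ({z} : Set G)} : (x : G) ∈ AG D ↔ x ∈ CC D :=
  Subgroup.mem_map_iff_mem (Subgroup.subtype_injective _)

variable [Q.Normal]

theorem allUnique (hF : Cfsg.IsOfLargeFischerTypeAt z Q) (T : Sylow 2 G) :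
    H33.FiLocal.AllUnique (2 ^ 11) G ∧
      H33.FiLocal.UniqueMax (2 ^ 11) (T : Subgroup G) (Cfsg.thompsonSubgroupOf 2 (T : Subgroup G)) := by
  obtain ⟨h1, h2, -⟩ := H33.FiLocal.thompson_data Q hF.1.1 hF.1.2.1 hF.1.2.2.1
    (fun S => by
      obtain ⟨A, hA, hc, -⟩ := sylow_unique hF S
      exact ⟨A, hA, hc⟩) T
  exact ⟨h1, h2⟩

/-- The Thompson subgroup is conjugate to the subgroup of lifts. -/
theorem thompson_conj (hF : Cfsg.IsOfLargeFischerTypeAt z Q) (D : Model z Q) (T : Sylow 2 G) :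
    ∃ g : G, (Cfsg.thompsonSubgroupOf 2 (T : Subgroup G)).map (MulAut.conj g).toMonoidHom = AG D := by
  have := Fact.mk Nat.prime_two
  have hz := hF.1.1
  obtain ⟨hall, hU⟩ := allUnique hF T
  have hp : IsPGroup 2 ↥(AG D) := IsPGroup.of_card (n := 11) (card_AG D hz)
  obtain ⟨R, hR⟩ := hp.exists_le_sylow
  obtain ⟨g, rfl⟩ := MulAction.exists_smul_eq G T R
  exact ⟨g, ((hU.conj g).2.2.2 _ hR (ea_AG D hz)).2 (card_AG D hz) |>.symm⟩

/-- The normalizer of the subgroup of lifts controls its fusion. -/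
theorem fusion_AG (hF : Cfsg.IsOfLargeFischerTypeAt z Q) (D : Model z Q) {a g : G} (ha : a ∈ AG D)
    (hb : g * a * g⁻¹ ∈ AG D) :
    ∃ m ∈ Subgroup.normalizer (AG D : Set G), m * a * m⁻¹ = g * a * g⁻¹ :=
  H33.FiLocal.fusion (allUnique hF (default : Sylow 2 G)).1 (ea_AG D hF.1.1) (card_AG D hF.1.1) ha hb

end H59.Fi24
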