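import Cfsg.Agent.H59.Fischer.Data

/-!
Numeric checks on the data.
-/

set_option autoImplicit false
set_option maxRecDepth 100000
set_option synthInstance.maxSize 2000

namespace H59.Fi24

open H16.Fi24

theorem KT_ok : ∀ k : Fin 10, key (gen k) = KT.getD k.val 0 := by decide +kernel

/-- A table of left multiplications closing a list of codes, with a spanning tree. -/
def GroupCert (gw : List (List (Fin 10))) (g L : List ℕ) (par : List (ℕ × ℕ)) (tbl : List (List ℕ)) :
    Prop :=
  gw.length = g.length ∧ L.Nodup ∧ L.getD 0 0 = one ∧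
  (∀ i < g.length, kw KT (gw.getD i []) = g.getD i 0) ∧
  (∀ i < g.length, ∀ e < L.length, (tbl.getD i []).getD e 0 < L.length ∧
    kmul (g.getD i 0) (L.getD e 0) = L.getD ((tbl.getD i []).getD e 0) 0) ∧
  ∀ e < L.length, e = 0 ∨ ((par.getD e (0, 0)).1 < g.length ∧ (par.getD e (0, 0)).2 < e ∧
    kmul (g.getD (par.getD e (0, 0)).1 0) (L.getD (par.getD e (0, 0)).2 0) = L.getD e 0)

theorem certP : GroupCert gwP gP LP parP tblP := by
  refine ⟨rfl, ?_, rfl, ?_, ?_, ?_⟩ <;> decide +kernel

theorem certR : GroupCert gwR gR LR parR tblR := by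
  refine ⟨rfl, ?_, rfl, ?_, ?_, ?_⟩ <;> decide +kernel

theorem len_P : LP.length = 128 := rfl

theorem len_R : LR.length = 64 := rfl

theorem invol_P : ∀ p ∈ LP, kmul p p = one → p = one ∨ p ∈ LI := by decide +kernel

theorem LI_ok : LI.length = 35 ∧ LI.Nodup := ⟨rfl, by decide +kernel⟩

theorem row_ok : ∀ x < 35, ∀ y < 35, kmul (LI.getD x 0) (LI.getD y 0) = kmul (LI.getD y 0) (LI.getD x 0) →
    (rowI.getD x 0).testBit y = true := by decide +kernel

theorem common_ok : ∀ x y : Fin 35, LI.getD x.val 0 ∉ LA → LI.getD y.val 0 ∉ LN →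
    (rowI.getD x.val 0).testBit y.val = true →
    ((List.range 35).filter fun w =>
      (rowI.getD x.val 0).testBit w && (rowI.getD y.val 0).testBit w).length < 15 := by decide +kernel

/-- A closed list of sixteen commuting involutions and the identity inside `P`. -/
def FourCert (L ix g : List ℕ) : Prop :=
  L.length = 16 ∧ L.Nodup ∧ one ∈ L ∧ (∀ i < 16, ix.getD i 0 < 128 ∧ LP.getD (ix.getD i 0) 0 = L.getD i 0) ∧
  (∀ a ∈ L, ∀ b ∈ L, kmul a b ∈ L ∧ kmul a b = kmul b a) ∧ (∀ a ∈ L, kmul a a = one) ∧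
  ∀ a ∈ g, a ∈ L

theorem certA : FourCert LA ixA gA := by
  refine ⟨rfl, ?_, ?_, ?_, ?_, ?_, ?_⟩ <;> decide +kernel

theorem certN : FourCert LN ixN gN := by
  refine ⟨rfl, ?_, ?_, ?_, ?_, ?_, ?_⟩ <;> decide +kernel

/-- The fixed space of the first elementary abelian group. -/
def inU (v : W) : Prop := v 0 = v 1 ∧ v 2 = v 3 ∧ v 4 = v 5

instance (v : W) : Decidable (inU v) := by unfold inU; infer_instance

theorem fix_A : ∀ v : W, (∀ a ∈ gA, appN a (code v) = code v) → inU v :=
  forall_W (by decide +kernel)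

theorem fix_U : ∀ v : W, inU v → ∀ a ∈ LA, appN a (code v) = code v :=
  forall_W (by decide +kernel)

theorem fix_N : ∀ v : W, (∀ a ∈ gN, appN a (code v) = code v) → code v ∈ [0, v3, wc v3, wc (wc v3)] :=
  forall_W (by decide +kernel)

theorem qf_U : ∀ v : W, inU v → qf v = 0 ∧ inU (wW v) := forall_W (by decide +kernel)

theorem orth_U : ∀ v : W, (∀ u ∈ uB, Bf v (dec u) = 0) → inU v := forall_W (by decide +kernel)

theorem dual_U : ∀ i < 6, inU (dec (uB.getD i 0)) ∧
    ∀ j < 6, Bf (dec (uB.getD i 0)) (dec (yB.getD j 0)) = if i = j then 1 else 0 := by decide +kernel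

/-- Coordinates in the fixed space. -/
def coU (v : W) (i : ℕ) : Bool :=
  (code v).testBit (if i < 2 then i else if i < 4 then 2 + i else 4 + i)

theorem span_U : ∀ v : W, inU v → v =
    (if coU v 0 then dec (uB.getD 0 0) else 0) + (if coU v 1 then dec (uB.getD 1 0) else 0) +
    (if coU v 2 then dec (uB.getD 2 0) else 0) + (if coU v 3 then dec (uB.getD 3 0) else 0) +
    (if coU v 4 then dec (uB.getD 4 0) else 0) + (if coU v 5 then dec (uB.getD 5 0) else 0) :=
  forall_W (by decide +kernel)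

theorem card_U : (Finset.univ.filter fun v : W => inU v).card = 64 := by decide +kernel

theorem g3_ok : kw KT g3w = g3K ∧ kw KT g3iw = g3iK ∧ kmul g3iK g3K = one ∧ appN g3K v3 = v3 := by
  decide +kernel

theorem g2_ok : kw KT g2w = g2K ∧ kw KT g2iw = g2iK ∧ kmul g2iK g2K = one ∧ appN g2K v2 = v2 := by
  decide +kernel

theorem inter_P : ∀ p ∈ LP, kmul (kmul g3iK p) g3K ∈ LP → p ∈ LN := by decide +kernel

theorem inter_R : ∀ p ∈ LR, kmul (kmul g2iK p) g2K ∈ LR → p = one := by decide +kernel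

theorem fix_gP : ∀ g ∈ gP, appN g v3 = v3 := by decide +kernel

theorem fix_gR : ∀ g ∈ gR, appN g v2 = v2 := by decide +kernel

theorem nw_ok : ∀ i < 4, kw KT (nw.getD i []) = nK.getD i 0 := by decide +kernel

theorem nperm_ok : ∀ i < 4, ∀ a < 16, (nperm.getD i []).getD a 0 < 16 ∧
    kmul (nK.getD i 0) (LA.getD a 0) = kmul (LA.getD ((nperm.getD i []).getD a 0) 0) (nK.getD i 0) := by
  decide +kernel

theorem ntree_ok : ∀ a < 16, a ≤ 1 ∨ ((ntree.getD a (0, 0, 0)).1 < 4 ∧
    (ntree.getD a (0, 0, 0)).2.1 < 16 ∧ 0 < (ntree.getD a (0, 0, 0)).2.1 ∧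
    (ntree.getD (ntree.getD a (0, 0, 0)).2.1 (0, 0, 0)).2.2 < (ntree.getD a (0, 0, 0)).2.2 ∧
    (nperm.getD (ntree.getD a (0, 0, 0)).1 []).getD (ntree.getD a (0, 0, 0)).2.1 0 = a) := by
  decide +kernel

theorem LA_zero : LA.getD 0 0 = one := rfl

/-- Scaling of a packed map. -/
def wK (A : ℕ) : ℕ := pack fun j => wc (col A j)

/-- The code of the `i`-th spanning map. -/
def orbK (i : ℕ) : ℕ := if i < 16 then LN.getD i 0 else wK (LN.getD (i - 16) 0)

/-- A selected sum of spanning maps. -/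
def combK (m : ℕ) : ℕ → ℕ
  | 0 => 0
  | i + 1 => (if m.testBit i then orbK i else 0) ^^^ combK m i

/-- The maps sending the marked vector to the unit vectors. -/
def MK : List ℕ := [1180663682709764194305,
  1180663679412034605060,
  1180663678586344177680,
  1180663678380235882560,
  97998345488064053504,
  23995758948647936]

theorem MK_ok : ∀ j : Fin 6, combK (mask.getD j.val 0) 32 = MK.getD j.val 0 ∧
    appN (MK.getD j.val 0) w0 = code (uv j) := by decide +kernel

/-- The map commuting with `N` determined by the image of the marked vector. -/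
def Ku (u : ℕ) : ℕ := pack fun j => appN (MK.getD j 0) u

theorem centraliser_ok : ∀ u : Fin 4096, appN (Ku u.val) v3 = v3 →
    (∃ w ∈ wit, lab (dec (appN (Ku u.val) w)) ≠ lab (dec w)) ∨ Ku u.val ∈ LN := by decide +kernel

theorem rep_ok : code (rep 2) = v2 ∧ code (rep 3) = v3 ∧ inU (rep 3) := by decide +kernel

end H59.Fi24
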