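import Cfsg.Agent.H59.Fischer.Exist

/-!
The subgroup of lifts is elementary abelian of order `2^11`.
-/

set_option autoImplicit false
set_option maxRecDepth 100000

namespace H59.Fi24

open H16.Fi24

universe u

theorem LA_third : ∃ c ∈ LA, c ≠ one ∧ c ≠ LA.getD 1 0 ∧ c ≠ LA.getD 2 0 ∧
    c ≠ kmul (LA.getD 1 0) (LA.getD 2 0) ∧ LA.getD 1 0 ≠ one ∧ LA.getD 2 0 ≠ one ∧
    LA.getD 1 0 ≠ LA.getD 2 0 := by decide +kernel

theorem LA_index : ∀ k ∈ LA, k = one ∨ ∃ a < 16, 1 ≤ a ∧ LA.getD a 0 = k := by decide +kernel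

theorem nw_norm {i : ℕ} (hi : i < 4) {a : ℕ} (ha : a < 16) {p : Equiv.Perm W} (hp : p ∈ AA)
    (hk : key p = LA.getD a 0) :
    ∃ p' ∈ AA, key p' = LA.getD ((nperm.getD i []).getD a 0) 0 ∧
      wordP (nw.getD i []) * p * (wordP (nw.getD i []))⁻¹ = p' := by
  obtain ⟨h1, h2⟩ := nperm_ok i hi a ha
  obtain ⟨p', hp', -, hk'⟩ := exists_four certA (k := LA.getD ((nperm.getD i []).getD a 0) 0)
    (getD_mem (show _ < LA.length from h1))
  refine ⟨p', hp', hk', mul_inv_eq_iff_eq_mul.2 ?_⟩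
  refine key_K0_inj (mul_mem (wordP_mem _) hp.1) (mul_mem hp'.1 (wordP_mem _)) ?_
  rw [key_K0_mul (wordP_mem _), key_K0_mul hp'.1, key_wordP KT_ok, nw_ok i hi, hk, hk', h2]

theorem nw_norm_all {i : ℕ} (hi : i < 4) {p : Equiv.Perm W} (hp : p ∈ AA) :
    wordP (nw.getD i []) * p * (wordP (nw.getD i []))⁻¹ ∈ AA := by
  obtain ⟨a, ha, e⟩ := exists_getD_of_mem (d := 0) hp.2
  obtain ⟨p', hp', -, h⟩ := nw_norm hi (a := a) (certA.1 ▸ ha) hp e.symm
  rw [h]; exact hp'

theorem norm_U {g : Equiv.Perm W} (hg : ∀ a ∈ AA, g * a * g⁻¹ ∈ AA) {v : W} (hv : inU v) :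
    inU (g⁻¹ v) := by
  refine mem_U_of_fix fun a ha => ?_
  have h := fix_U_AA hv (hg a ha)
  simp only [Equiv.Perm.mul_apply] at h
  conv_rhs => rw [← h]
  simp only [Equiv.Perm.inv_def, Equiv.symm_apply_apply]

variable {G : Type u} [Group G] [Finite G] {z : G}
  {Q : Subgroup (Subgroup.centralizer ({z} : Set G))}

theorem elem_CC [Q.Normal] (D : Model z Q) (hz : orderOf z = 2) :
    (∀ c ∈ CC D, c * c = 1) ∧ ∀ c ∈ CC D, ∀ d ∈ CC D, c * d = d * c := by
  classical
  have hz1 : z ≠ 1 := fun h => by rw [h, orderOf_one] at hz; omega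
  obtain ⟨zh, hzQ, hzv, hzΦ, hzh1⟩ := z_mem D hz1
  have hzc : ∀ x : Subgroup.centralizer ({z} : Set G), x * zh = zh * x := fun x =>
    Subtype.ext (by
      simp only [Subgroup.coe_mul, hzv]
      exact Subgroup.mem_centralizer_singleton_iff.1 x.2)
  have hzz : zh * zh = 1 := Subtype.ext (by
    simp only [Subgroup.coe_mul, hzv, Subgroup.coe_one]; rw [← pow_two, ← hz, pow_orderOf_eq_one])
  obtain ⟨x, hx3, hx, -⟩ := exists_scalar D hz
  have hQcase : ∀ c ∈ Q, c * x = x * c → c = 1 ∨ c = zh := by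
    intro c hc hcx
    have h0 : D.Φ c = 0 := by
      refine wW_fix _ ?_
      rw [← hx, D.conj x c hc]
      congr 1
      rw [← hcx, mul_assoc, mul_inv_cancel, mul_one]
    rcases (D.eq_zero c hc).1 h0 with h | h
    · exact Or.inl (Subtype.ext h)
    · exact Or.inr (Subtype.ext (h.trans hzv.symm))
  -- squares of the lifts
  let Bad : Equiv.Perm W → Prop := fun a => ∃ c ∈ CC D, c * x = x * c ∧ D.ρ c = a ∧ c * c = zh
  have hsq : ∀ c ∈ CC D, c * x = x * c → c * c = 1 ∨ c * c = zh := by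
    intro c hc hcx
    refine hQcase _ (mem_Q_of_rho D ?_) ?_
    · rw [map_mul]; exact four_sq certA ((mem_CC D).1 hc).1
    · rw [mul_assoc, hcx, ← mul_assoc, hcx, mul_assoc]
  have hgood : ∀ a ∈ AA, ¬ Bad a → ∀ c ∈ CC D, c * x = x * c → D.ρ c = a → c * c = 1 := by
    intro a _ hb c hc hcx hρ
    exact (hsq c hc hcx).resolve_right fun h => hb ⟨c, hc, hcx, hρ, h⟩
  have hall : ∀ a ∈ AA, Bad a → ∀ c ∈ CC D, c * x = x * c → D.ρ c = a → c * c = zh := by
    rintro a - ⟨d, hd, hdx, hdρ, hdd⟩ c hc hcx hρ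
    have hq : d⁻¹ * c ∈ Q := mem_Q_of_rho D (by rw [map_mul, map_inv, hdρ, hρ, inv_mul_cancel])
    have hqx : d⁻¹ * c * x = x * (d⁻¹ * c) :=
      ((show Commute d x from hdx).inv_left.mul_left (show Commute c x from hcx)).eq
    rcases hQcase _ hq hqx with h | h
    · rw [← inv_mul_eq_one.1 h, hdd]
    · rw [inv_mul_eq_iff_eq_mul.1 h]
      calc d * zh * (d * zh) = d * (zh * d) * zh := by group
        _ = d * (d * zh) * zh := by rw [hzc d]
        _ = d * d * (zh * zh) := by group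
        _ = zh := by rw [hdd, hzz, mul_one]
  -- invariance
  have hinv : ∀ i < 4, ∀ a ∈ AA, Bad a →
      Bad (wordP (nw.getD i []) * a * (wordP (nw.getD i []))⁻¹) := by
    intro i hi a ha ⟨c, hc, hcx, hcρ, hcc⟩
    obtain ⟨h, -, hh⟩ := D.exists_rho (wordP_mem (nw.getD i []))
    obtain ⟨y, hy, hyx, -⟩ := exists_fix D hz hx3 hx (c := h) (hh ▸ comm_wW_K0 (wordP_mem _))
    set g := y * h
    have hg : D.ρ g = wordP (nw.getD i []) := by rw [map_mul, rho_Q D hy, one_mul, hh]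
    refine ⟨g * c * g⁻¹, ?_, ?_, by rw [map_mul, map_mul, map_inv, hg, hcρ], ?_⟩
    · refine conj_CC D (fun v hv => ?_) (fun b hb => by rw [hg]; exact nw_norm_all hi hb) hc
      rw [map_inv, hg]
      exact norm_U (fun b hb => nw_norm_all hi hb) hv
    · exact (((show Commute g x from hyx).mul_left (show Commute c x from hcx)).mul_left
        (show Commute g x from hyx).inv_left).eq
    · calc g * c * g⁻¹ * (g * c * g⁻¹) = g * (c * c) * g⁻¹ := by group
        _ = zh := by rw [hcc, hzc, mul_inv_cancel_right]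
  have hinj : ∀ {p q : Equiv.Perm W}, p ∈ AA → q ∈ AA → key p = key q → p = q :=
    fun hp hq e => key_K0_inj hp.1 hq.1 e
  obtain ⟨k3, hk3, hk31, hk3a, hk3b, hk3ab, h11, h21, h12⟩ := LA_third
  obtain ⟨a1, ha1, -, hka1⟩ := exists_four certA (k := LA.getD 1 0) (getD_mem (by decide))
  obtain ⟨a2, ha2, -, hka2⟩ := exists_four certA (k := LA.getD 2 0) (getD_mem (by decide))
  obtain ⟨a3, ha3, -, hka3⟩ := exists_four certA hk3
  -- all or none
  have hinvinv : ∀ i < 4, ∀ a ∈ AA, (Bad (wordP (nw.getD i []) * a * (wordP (nw.getD i []))⁻¹) ↔ Bad a) := by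
    intro i hi a ha
    refine ⟨fun h => ?_, hinv i hi a ha⟩
    have hn : ∀ n, ∀ b ∈ AA, Bad b → Bad (wordP (nw.getD i []) ^ n * b * (wordP (nw.getD i []) ^ n)⁻¹) ∧
        wordP (nw.getD i []) ^ n * b * (wordP (nw.getD i []) ^ n)⁻¹ ∈ AA := by
      intro n
      induction n with
      | zero => intro b hb hB; simpa using ⟨hB, hb⟩
      | succ n ih =>
        intro b hb hB
        obtain ⟨h1, h2⟩ := ih b hb hB
        rw [show wordP (nw.getD i []) ^ (n + 1) * b * (wordP (nw.getD i []) ^ (n + 1))⁻¹ =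
          wordP (nw.getD i []) * (wordP (nw.getD i []) ^ n * b * (wordP (nw.getD i []) ^ n)⁻¹) *
            (wordP (nw.getD i []))⁻¹ by rw [pow_succ']; group]
        exact ⟨hinv i hi _ h2 h1, nw_norm_all hi h2⟩
    obtain ⟨h1, -⟩ := hn (orderOf (wordP (nw.getD i [])) - 1) _ (nw_norm_all hi ha) h
    have e : wordP (nw.getD i []) ^ (orderOf (wordP (nw.getD i [])) - 1) * wordP (nw.getD i []) = 1 := by
      rw [← pow_succ, Nat.sub_add_cancel (orderOf_pos _), pow_orderOf_eq_one]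
    rw [eq_inv_of_mul_eq_one_left e] at h1
    simpa [mul_assoc] using h1
  have htrans : ∀ a, 1 ≤ a → a < 16 → ∀ p ∈ AA, key p = LA.getD a 0 → (Bad p ↔ Bad a1) := by
    intro a
    induction hd : (ntree.getD a (0, 0, 0)).2.2 using Nat.strong_induction_on generalizing a with
    | _ d ih =>
      intro h1 h16 p hp hk
      rcases ntree_ok a h16 with h | ⟨hi, hp16, hp0, hdep, hperm⟩
      · obtain rfl : a = 1 := le_antisymm h h1
        rw [hinj hp ha1 (hk.trans hka1.symm)]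
      · obtain ⟨q, hq, -, hkq⟩ := exists_four certA
          (k := LA.getD (ntree.getD a (0, 0, 0)).2.1 0) (getD_mem (show _ < LA.length from hp16))
        obtain ⟨p', hp', hkp', e⟩ := nw_norm hi hp16 hq hkq
        rw [hperm] at hkp'
        rw [hinj hp hp' (hk.trans hkp'.symm), ← e, hinvinv _ hi q hq]
        exact ih _ (hd ▸ hdep) _ rfl hp0 hp16 q hq hkq
  have hbadiff : ∀ p ∈ AA, p ≠ 1 → (Bad p ↔ Bad a1) := by
    intro p hp hp1
    rcases LA_index _ hp.2 with h | ⟨a, ha, ha0, e⟩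
    · exact absurd ((key_eq_one hp.1).1 h) hp1
    · exact htrans a ha0 ha p hp e.symm
  have hlift := fun {a : Equiv.Perm W} (ha : a ∈ AA) => exists_CC_fix D hz hx3 hx ha
  have hnone : ¬ Bad a1 := by
    intro hb
    have hne : ∀ {p q : Equiv.Perm W}, key p ≠ key q → p ≠ q := fun h e => h (e ▸ rfl)
    have hneq1 : ∀ {p : Equiv.Perm W}, key p ≠ one → p ≠ 1 := fun h => hne (key_one.symm ▸ h)
    obtain ⟨c1, hc1, hc1ρ, hc1x⟩ := hlift ha1
    obtain ⟨c2, hc2, hc2ρ, hc2x⟩ := hlift ha2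
    obtain ⟨c3, hc3, hc3ρ, hc3x⟩ := hlift ha3
    have anti : ∀ c ∈ CC D, ∀ d ∈ CC D, c * x = x * c → d * x = x * d → D.ρ c ≠ 1 → D.ρ d ≠ 1 →
        D.ρ c ≠ D.ρ d → c * d = zh * (d * c) := by
      intro c hc d hd hcx hdx hc1 hd1 hcd
      have hAc := ((mem_CC D).1 hc).1
      have hAd := ((mem_CC D).1 hd).1
      have hcd1 : D.ρ (c * d) ≠ 1 := by
        rw [map_mul]
        intro h
        exact hcd (by
          calc D.ρ c = D.ρ c * (D.ρ d * D.ρ d) := by rw [four_sq certA hAd, mul_one]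
            _ = D.ρ d := by rw [← mul_assoc, h, one_mul])
      have hcdx : c * d * x = x * (c * d) :=
        ((show Commute c x from hcx).mul_left (show Commute d x from hdx)).eq
      have hbad : ∀ e ∈ CC D, e * x = x * e → D.ρ e ≠ 1 → e * e = zh := fun e he hex he1 =>
        hall _ ((mem_CC D).1 he).1 ((hbadiff _ ((mem_CC D).1 he).1 he1).2 hb) e he hex rfl
      have e1 := hbad c hc hcx hc1
      have e2 := hbad d hd hdx hd1
      have e3 := hbad _ (mul_mem hc hd) hcdx hcd1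
      calc c * d = c * d * ((c * d) * (c * d)) * zh := by
            rw [e3, mul_assoc, hzz, mul_one]
        _ = c * d * (c * d) * (c * d) * zh := by group
        _ = zh * (c * d) * zh := by rw [e3]
        _ = zh * (d * c) := by
          have : d * c * (c * d) = 1 := by
            rw [mul_assoc, ← mul_assoc c c d, e1, ← hzc d, ← mul_assoc, e2, hzz]
          rw [eq_inv_of_mul_eq_one_left this]
          have h3 : (c * d)⁻¹ = (c * d) * zh := inv_eq_of_mul_eq_one_right (by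
            rw [← mul_assoc, e3, hzz])
          rw [h3, mul_assoc]
    have n1 : D.ρ c1 ≠ 1 := hc1ρ.symm ▸ hneq1 (hka1.symm ▸ h11)
    have n2 : D.ρ c2 ≠ 1 := hc2ρ.symm ▸ hneq1 (hka2.symm ▸ h21)
    have n3 : D.ρ c3 ≠ 1 := hc3ρ.symm ▸ hneq1 (hka3.symm ▸ hk31)
    have n12 : D.ρ c1 ≠ D.ρ c2 := by rw [hc1ρ, hc2ρ]; exact hne (by rw [hka1, hka2]; exact h12)
    have n13 : D.ρ c1 ≠ D.ρ c3 := by rw [hc1ρ, hc3ρ]; exact hne (by rw [hka1, hka3]; exact hk3a.symm)
    have n23 : D.ρ c2 ≠ D.ρ c3 := by rw [hc2ρ, hc3ρ]; exact hne (by rw [hka2, hka3]; exact hk3b.symm)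
    have n23' : D.ρ (c2 * c3) ≠ 1 := by
      rw [map_mul]
      intro h
      exact n23 (by
        calc D.ρ c2 = D.ρ c2 * (D.ρ c3 * D.ρ c3) := by rw [four_sq certA ((mem_CC D).1 hc3).1, mul_one]
          _ = D.ρ c3 := by rw [← mul_assoc, h, one_mul])
    have n123 : D.ρ c1 ≠ D.ρ (c2 * c3) := by
      rw [map_mul, hc1ρ, hc2ρ, hc3ρ]
      intro h
      refine hk3ab ?_
      have e3 : a3 = a1 * a2 := by
        rw [h, four_comm certA ha2 ha3, mul_assoc, four_sq certA ha2, mul_one]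
      rw [← hka3, e3, key_K0_mul ha1.1, hka1, hka2]
    have hc23x : c2 * c3 * x = x * (c2 * c3) :=
      ((show Commute c2 x from hc2x).mul_left (show Commute c3 x from hc3x)).eq
    have A12 := anti c1 hc1 c2 hc2 hc1x hc2x n1 n2 n12
    have A13 := anti c1 hc1 c3 hc3 hc1x hc3x n1 n3 n13
    have A := anti c1 hc1 (c2 * c3) (mul_mem hc2 hc3) hc1x hc23x n1 n23' n123
    have B : c1 * (c2 * c3) = zh * zh * (c2 * c3 * c1) := by
      calc c1 * (c2 * c3) = c1 * c2 * c3 := (mul_assoc _ _ _).symm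
        _ = zh * c2 * (c1 * c3) := by rw [A12]; group
        _ = zh * c2 * (zh * (c3 * c1)) := by rw [A13]
        _ = zh * (c2 * zh) * (c3 * c1) := by group
        _ = zh * (zh * c2) * (c3 * c1) := by rw [hzc c2]
        _ = zh * zh * (c2 * c3 * c1) := by group
    rw [A, hzz, one_mul] at B
    exact hzh1 (mul_eq_right.1 B)
  -- conclusion
  have hone : ∀ c ∈ CC D, c * x = x * c → c * c = 1 := by
    intro c hc hcx
    by_cases h : D.ρ c = 1
    · rcases hQcase c (mem_Q_of_rho D h) hcx with e | e <;> rw [e]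
      · exact one_mul 1
      · exact hzz
    · exact hgood _ ((mem_CC D).1 hc).1 (fun hb => hnone ((hbadiff _ ((mem_CC D).1 hc).1 h).1 hb))
        c hc hcx rfl
  have hsplit : ∀ c ∈ CC D, ∃ d ∈ CC D, ∃ w ∈ Wt D, d * x = x * d ∧ c = d * w := by
    intro c hc
    obtain ⟨d, hd, hdρ, hdx⟩ := hlift ((mem_CC D).1 hc).1
    refine ⟨d, hd, d⁻¹ * c, (CC_inf_Q D) ▸ ⟨mul_mem ((CC D).inv_mem hd) hc, mem_Q_of_rho D ?_⟩,
      hdx, (mul_inv_cancel_left d c).symm⟩
    rw [map_mul, map_inv, hdρ, inv_mul_cancel]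
  have hsqall : ∀ c ∈ CC D, c * c = 1 := by
    intro c hc
    obtain ⟨d, hd, w, hw, hdx, rfl⟩ := hsplit c hc
    calc d * w * (d * w) = d * (w * d) * w := by group
      _ = d * (d * w) * w := by rw [((mem_CC D).1 hd).2 w hw]
      _ = d * d * (w * w) := by group
      _ = 1 := by rw [hone d hd hdx, Wt_sq D hw, one_mul]
  refine ⟨hsqall, fun c hc d hd => ?_⟩
  have h := hsqall _ (mul_mem hc hd)
  calc c * d = c * d * (c * d * (c * d))⁻¹ := by rw [h, inv_one, mul_one]
    _ = d⁻¹ * c⁻¹ := by group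
    _ = d * c := by
      rw [inv_eq_of_mul_eq_one_right (hsqall d hd), inv_eq_of_mul_eq_one_right (hsqall c hc)]

theorem card_Wt (D : Model z Q) (hz : orderOf z = 2) : Nat.card (Wt D) = 128 := by
  classical
  have hz1 : z ≠ 1 := fun h => by rw [h, orderOf_one] at hz; omega
  obtain ⟨zh, hzQ, hzv, hzΦ, hzh1⟩ := z_mem D hz1
  have hzz : zh * zh = 1 := Subtype.ext (by
    simp only [Subgroup.coe_mul, hzv, Subgroup.coe_one]; rw [← pow_two, ← hz, pow_orderOf_eq_one])
  let f : Wt D →* Multiplicative W := MonoidHom.mk' (fun r => Multiplicative.ofAdd (D.Φ r.1))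
    (fun a b => congrArg Multiplicative.ofAdd (D.map_mul _ a.2.1 _ b.2.1))
  have hker : Nat.card f.ker = 2 := by
    have hle : f.ker.map (Wt D).subtype = Subgroup.zpowers zh := by
      refine le_antisymm ?_ ?_
      · rintro r ⟨r', hr, rfl⟩
        rcases (D.eq_zero _ r'.2.1).1 (congrArg Multiplicative.toAdd hr) with h | h
        · rw [show (Wt D).subtype r' = 1 from Subtype.ext h]; exact one_mem _
        · rw [show (Wt D).subtype r' = zh from Subtype.ext (h.trans hzv.symm)]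
          exact Subgroup.mem_zpowers _
      · rw [Subgroup.zpowers_le]
        exact ⟨⟨zh, hzQ, by rw [hzΦ]; exact inU_zero⟩, congrArg Multiplicative.ofAdd hzΦ, rfl⟩
    rw [← Subgroup.card_subtype (Wt D) f.ker, hle,
      Nat.card_zpowers]
    exact orderOf_eq_prime (by rw [pow_two]; exact hzz) hzh1
  have hrange : Nat.card f.range = 64 := by
    rw [← card_U, ← Nat.card_eq_finsetCard]
    refine Nat.card_congr ⟨fun x => ⟨Multiplicative.toAdd x.1, ?_⟩,
      fun v => ⟨Multiplicative.ofAdd v.1, ?_⟩, fun x => rfl, fun v => rfl⟩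
    · obtain ⟨r, hr⟩ := x.2
      rw [Finset.mem_filter]
      exact ⟨Finset.mem_univ _, by rw [← hr]; exact r.2.2⟩
    · obtain ⟨r, hr, e⟩ := D.surj v.1
      exact ⟨⟨r, hr, e.symm ▸ (Finset.mem_filter.1 v.2).2⟩, congrArg Multiplicative.ofAdd e⟩
  have h := f.ker.card_mul_index
  rw [Subgroup.index_ker, hker, hrange] at h
  omega

theorem card_CC [Q.Normal] (D : Model z Q) (hz : orderOf z = 2) : Nat.card (CC D) = 2048 := by
  let f : CC D →* Equiv.Perm W := D.ρ.comp (CC D).subtype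
  have hker : f.ker.map (CC D).subtype = Wt D := by
    rw [← CC_inf_Q]
    refine le_antisymm ?_ ?_
    · rintro r ⟨r', hr, rfl⟩
      exact ⟨r'.2, mem_Q_of_rho D hr⟩
    · intro r hr
      exact ⟨⟨r, hr.1⟩, rho_Q D hr.2, rfl⟩
  have hrange : f.range = AA := by
    refine le_antisymm ?_ ?_
    · rintro a ⟨r, rfl⟩
      exact ((mem_CC D).1 r.2).1
    · intro a ha
      obtain ⟨c, hc, e⟩ := exists_CC D hz ha
      exact ⟨⟨c, hc⟩, e⟩
  have h := f.ker.card_mul_index
  rw [Subgroup.index_ker, hrange, card_AA,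
    ← Subgroup.card_subtype (CC D) f.ker,
    hker, card_Wt D hz] at h
  omega

end H59.Fi24
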