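import Cfsg.Agent.H59.Fischer.Semi

/-!
An elementary abelian subgroup of order `2^11` in the centraliser.
-/

set_option autoImplicit false
set_option maxRecDepth 100000

namespace H59.Fi24

open H16.Fi24

universe u

variable {G : Type u} [Group G] [Finite G] {z : G}
  {Q : Subgroup (Subgroup.centralizer ({z} : Set G))}

theorem phi_one (D : Model z Q) : D.Φ 1 = 0 := (D.eq_zero 1 (one_mem _)).2 (Or.inl rfl)

theorem phi_inv (D : Model z Q) {x : Subgroup.centralizer ({z} : Set G)} (hx : x ∈ Q) :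
    D.Φ x⁻¹ = D.Φ x := by
  have h := D.map_mul x hx x⁻¹ (inv_mem hx)
  rw [mul_inv_cancel, phi_one D] at h
  exact (eq_neg_of_add_eq_zero_right h.symm).trans (ZModModule.neg_eq_self _)

theorem z_mem (D : Model z Q) (hne : z ≠ 1) :
    ∃ zh ∈ Q, (zh : G) = z ∧ D.Φ zh = 0 ∧ zh ≠ 1 := by
  obtain ⟨y, hy, e⟩ := D.surj (rep 2)
  obtain ⟨y', hy', hne'⟩ := D.exists_move hy (e ▸ (show rep 2 ≠ 0 by decide +kernel))
  have hmem := mul_mem (mul_mem hy hy') (inv_mem (mul_mem hy' hy))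
  rcases comm_Q D hy hy' with h | h
  · exact absurd (Subtype.ext (mul_inv_eq_one.1 h)) hne'
  · refine ⟨_, hmem, h, (D.eq_zero _ hmem).2 (Or.inr h), fun h1 => hne ?_⟩
    exact h.symm.trans (congrArg Subtype.val h1)

/-- The preimage of the fixed space. -/
def Wt (D : Model z Q) : Subgroup (Subgroup.centralizer ({z} : Set G)) where
  carrier := {x | x ∈ Q ∧ inU (D.Φ x)}
  one_mem' := ⟨one_mem _, by rw [phi_one D]; exact inU_zero⟩
  mul_mem' {a b} ha hb := ⟨mul_mem ha.1 hb.1, by rw [D.map_mul a ha.1 b hb.1]; exact inU_add ha.2 hb.2⟩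
  inv_mem' {a} ha := ⟨inv_mem ha.1, by rw [phi_inv D ha.1]; exact ha.2⟩

theorem mem_Wt (D : Model z Q) {x : Subgroup.centralizer ({z} : Set G)} :
    x ∈ Wt D ↔ x ∈ Q ∧ inU (D.Φ x) := Iff.rfl

theorem Wt_comm (D : Model z Q) {x y : Subgroup.centralizer ({z} : Set G)} (hx : x ∈ Wt D)
    (hy : y ∈ Wt D) : x * y = y * x := by
  refine (D.comm x hx.1 y hy.1).2 ?_
  have h := (qf_U _ (inU_add hx.2 hy.2)).1
  rwa [qf_add, (qf_U _ hx.2).1, (qf_U _ hy.2).1, zero_add, zero_add] at h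

theorem Wt_sq (D : Model z Q) {x : Subgroup.centralizer ({z} : Set G)} (hx : x ∈ Wt D) : x * x = 1 :=
  (D.sq x hx.1).2 (qf_U _ hx.2).1

/-- The lifts of `AA` centralising the preimage of the fixed space. -/
def CC (D : Model z Q) : Subgroup (Subgroup.centralizer ({z} : Set G)) :=
  AA.comap D.ρ ⊓ Subgroup.centralizer (Wt D : Set (Subgroup.centralizer ({z} : Set G)))

theorem mem_CC (D : Model z Q) {h : Subgroup.centralizer ({z} : Set G)} :
    h ∈ CC D ↔ D.ρ h ∈ AA ∧ ∀ w ∈ Wt D, h * w = w * h :=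
  ⟨fun ⟨a, b⟩ => ⟨a, fun w hw => (Subgroup.mem_centralizer_iff.1 b w hw).symm⟩,
    fun ⟨a, b⟩ => ⟨a, Subgroup.mem_centralizer_iff.2 fun w hw => (b w hw).symm⟩⟩

theorem rho_Q (D : Model z Q) {x : Subgroup.centralizer ({z} : Set G)} (hx : x ∈ Q) : D.ρ x = 1 :=
  MonoidHom.mem_ker.1 (D.ker.symm ▸ hx)

theorem mem_Q_of_rho (D : Model z Q) {x : Subgroup.centralizer ({z} : Set G)} (hx : D.ρ x = 1) :
    x ∈ Q := D.ker ▸ MonoidHom.mem_ker.2 hx

theorem CC_inf_Q (D : Model z Q) : CC D ⊓ Q = Wt D := by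
  refine le_antisymm (fun x hx => show x ∈ Q ∧ inU (D.Φ x) from ⟨hx.2, ?_⟩) (fun x hx => ⟨?_, hx.1⟩)
  · obtain ⟨h1, h2⟩ := (mem_CC D).1 hx.1
    refine orth_U _ fun u hu => ?_
    obtain ⟨y, hy, e⟩ := D.surj (dec u)
    have hU : inU (dec u) := by
      obtain ⟨i, hi, rfl⟩ := exists_getD_of_mem (d := 0) hu
      exact (dual_U i hi).1
    have := h2 y ⟨hy, e.symm ▸ hU⟩
    rw [← e]
    exact (D.comm x hx.2 y hy).1 this
  · exact (mem_CC D).2 ⟨by rw [rho_Q D hx.1]; exact one_mem _, fun w hw => Wt_comm D hx hw⟩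

/-- The spanning vectors of the fixed space. -/
def ub (i : Fin 6) : W := dec (uB.getD i.val 0)

/-- Their duals. -/
def yb (i : Fin 6) : W := dec (yB.getD i.val 0)

theorem Bf_ub_sum (i : Fin 6) (f : Fin 6 → Bool) :
    Bf (ub i) (∑ j, if f j then yb j else 0) = if f i then 1 else 0 := by
  have h : Bf (ub i) (∑ j, if f j then yb j else 0) = ∑ j, Bf (ub i) (if f j then yb j else 0) :=
    map_sum (AddMonoidHom.mk' (Bf (ub i)) (Bf_add_right (ub i))) _ _
  rw [h, Finset.sum_eq_single i]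
  · split
    · rw [ub, yb, (dual_U i.val i.2).2 i.val i.2, if_pos rfl]
    · exact Bf_zero _
  · intro j _ hj
    split
    · rw [ub, yb, (dual_U i.val i.2).2 j.val j.2, if_neg (fun e => hj (Fin.ext e.symm))]
    · exact Bf_zero _
  · simp

/-- Every element of `AA` lifts into `CC`. -/
theorem exists_CC [Q.Normal] (D : Model z Q) (hz : orderOf z = 2) {a : Equiv.Perm W} (ha : a ∈ AA) :
    ∃ c ∈ CC D, D.ρ c = a := by
  classical
  have hz1 : z ≠ 1 := fun h => by rw [h, orderOf_one] at hz; omega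
  obtain ⟨zh, hzQ, hzv, hzΦ, -⟩ := z_mem D hz1
  have hzc : ∀ x : Subgroup.centralizer ({z} : Set G), x * zh = zh * x := fun x =>
    Subtype.ext (by
      simp only [Subgroup.coe_mul, hzv]
      exact Subgroup.mem_centralizer_singleton_iff.1 x.2)
  have hzz : zh * zh = 1 := Subtype.ext (by
    simp only [Subgroup.coe_mul, hzv, Subgroup.coe_one]; rw [← pow_two, ← hz, pow_orderOf_eq_one])
  obtain ⟨h, -, rfl⟩ := D.exists_rho ha.1
  choose wl hwl hwe using fun i : Fin 6 => D.surj (ub i)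
  let f : Fin 6 → Bool := fun i => decide (h * wl i * h⁻¹ ≠ wl i)
  obtain ⟨y, hy, hye⟩ := D.surj (∑ j, if f j then yb j else 0)
  set c := y * h
  have hρ : D.ρ c = D.ρ h := by rw [map_mul, rho_Q D hy, one_mul]
  have hfix : ∀ i, D.Φ (h * wl i * h⁻¹) = D.Φ (wl i) := fun i => by
    rw [← D.conj h _ (hwl i), hwe]
    exact fix_U_AA (dual_U i.val i.2).1 ha
  have hcase : ∀ x w : Subgroup.centralizer ({z} : Set G), x ∈ Q → w ∈ Q → D.Φ x = D.Φ w →
      x = w ∨ x = w * zh := by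
    intro x w hx hw e
    rcases D.eq_or_mul hx hw e with e' | e'
    · exact Or.inl (Subtype.ext e')
    · exact Or.inr (Subtype.ext (by simpa [hzv] using e'))
  have hbasis : ∀ i, c * wl i = wl i * c := by
    intro i
    have hb : Bf (D.Φ (wl i)) (D.Φ y) = if f i then 1 else 0 := by rw [hwe, hye, Bf_ub_sum]
    have hh : h * wl i * h⁻¹ = if f i then wl i * zh else wl i := by
      rcases hcase _ _ (Subgroup.Normal.conj_mem inferInstance _ (hwl i) h) (hwl i) (hfix i) with e | e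
      · rw [if_neg (by simp [f, e]), e]
      · by_cases h0 : h * wl i * h⁻¹ = wl i
        · rw [if_neg (by simp [f, h0]), h0]
        · rw [if_pos (by simp [f, h0]), e]
    have hyy : y * wl i * y⁻¹ = if f i then wl i * zh else wl i := by
      have hΦ : D.Φ (y * wl i * y⁻¹) = D.Φ (wl i) := by
        rw [← D.conj y _ (hwl i), rho_Q D hy]; rfl
      rcases hcase _ _ (Subgroup.Normal.conj_mem inferInstance _ (hwl i) y) (hwl i) hΦ with e | e
      · split
        · next hf =>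
          exfalso
          rw [if_pos hf] at hb
          rw [(D.comm _ (hwl i) y hy).1 (mul_inv_eq_iff_eq_mul.1 e).symm] at hb
          exact absurd hb (by decide)
        · exact e
      · split
        · exact e
        · next hf =>
          rw [if_neg hf] at hb
          exact mul_inv_eq_iff_eq_mul.2 ((D.comm _ (hwl i) y hy).2 hb).symm
    have : c * wl i * c⁻¹ = wl i := by
      rw [show c * wl i * c⁻¹ = y * (h * wl i * h⁻¹) * y⁻¹ by simp only [c]; group, hh]
      split <;> rename_i hf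
      · rw [show y * (wl i * zh) * y⁻¹ = y * wl i * y⁻¹ * zh by
          rw [mul_assoc (y * wl i) y⁻¹ zh, hzc y⁻¹]; group]
        rw [hyy, if_pos hf, mul_assoc, hzz, mul_one]
      · rw [hyy, if_neg hf]
    exact mul_inv_eq_iff_eq_mul.1 this
  refine ⟨c, (mem_CC D).2 ⟨hρ.symm ▸ ha, fun w hw => ?_⟩, hρ⟩
  let K : Subgroup (Subgroup.centralizer ({z} : Set G)) :=
    Subgroup.centralizer {c} ⊓ Q
  have hK : ∀ i, wl i ∈ K := fun i =>
    ⟨Subgroup.mem_centralizer_singleton_iff.2 (hbasis i).symm, hwl i⟩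
  let T : AddSubgroup W :=
    { carrier := {v | ∃ r ∈ K, D.Φ r = v}
      zero_mem' := ⟨1, one_mem _, phi_one D⟩
      add_mem' := by
        rintro a b ⟨r, hr, rfl⟩ ⟨s, hs, rfl⟩
        exact ⟨r * s, mul_mem hr hs, D.map_mul r hr.2 s hs.2⟩
      neg_mem' := by
        rintro a ⟨r, hr, rfl⟩
        exact ⟨r, hr, (ZModModule.neg_eq_self _).symm⟩ }
  have hT : ∀ (b : Bool) (i : Fin 6), (if b then ub i else 0) ∈ T := by
    intro b i
    split
    · exact ⟨wl i, hK i, hwe i⟩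
    · exact T.zero_mem
  have hmem : D.Φ w ∈ T := by
    rw [span_U _ hw.2]
    exact T.add_mem (T.add_mem (T.add_mem (T.add_mem (T.add_mem (hT _ 0) (hT _ 1)) (hT _ 2))
      (hT _ 3)) (hT _ 4)) (hT _ 5)
  obtain ⟨r, hr, hre⟩ := hmem
  have hrc : r * c = c * r := Subgroup.mem_centralizer_singleton_iff.1 hr.1
  rcases hcase w r hw.1 hr.2 hre.symm with e | e
  · rw [e]; exact hrc.symm
  · rw [e, ← mul_assoc, ← hrc, mul_assoc, hzc c, ← mul_assoc]

theorem wW3 : ∀ v : W, wW (wW (wW v)) = v := forall_W (by decide +kernel)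

theorem wW_fix : ∀ v : W, wW v = v → v = 0 := forall_W (by decide +kernel)

theorem wW_sum : ∀ v : W, wW (wW v) + v = wW v := forall_W (by decide +kernel)

/-- An element of order three acting as the scalar. -/
theorem exists_scalar [Q.Normal] (D : Model z Q) (hz : orderOf z = 2) :
    ∃ x, x * x * x = 1 ∧ ⇑(D.ρ x) = wW ∧ x ∈ D.M := by
  obtain ⟨w, hwM, hw⟩ := D.omega
  have h3 : D.ρ (w * w * w) = 1 := by
    rw [map_mul, map_mul]
    refine Equiv.ext fun v => ?_
    simp only [Equiv.Perm.mul_apply, hw]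
    exact wW3 v
  set q := w * w * w
  have hq := mem_Q_of_rho D h3
  have hq4 : q * q * (q * q) = 1 := by
    apply Subtype.ext
    simp only [Subgroup.coe_mul, Subgroup.coe_one]
    rcases sq_Q D hq with h | h <;> rw [h]
    · exact one_mul 1
    · rw [← pow_two, ← hz, pow_orderOf_eq_one]
  refine ⟨w * q, ?_, ?_, mul_mem hwM (D.Q_le hq)⟩
  · have hc : Commute w q := by
      show w * (w * w * w) = w * w * w * w
      simp only [mul_assoc]
    calc w * q * (w * q) * (w * q) = w * w * w * (q * q * q) := by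
          simp only [mul_assoc]
          rw [← mul_assoc q w, ← hc.eq, mul_assoc w q, ← mul_assoc q w, ← hc.eq, mul_assoc w q,
            ← mul_assoc q w, ← hc.eq, mul_assoc w q]
      _ = q * q * (q * q) := by simp only [mul_assoc, q]
      _ = 1 := hq4
  · rw [map_mul, rho_Q D hq, mul_one, hw]

section Scalar

variable [Q.Normal] (D : Model z Q) {x : Subgroup.centralizer ({z} : Set G)}

/-- Correcting an element to commute with the scalar element. -/
theorem exists_fix (hz : orderOf z = 2) (hx3 : x * x * x = 1) (hx : ⇑(D.ρ x) = wW)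
    {c : Subgroup.centralizer ({z} : Set G)} (hc : ∀ v, D.ρ c (wW v) = wW (D.ρ c v)) :
    ∃ y ∈ Q, (y * c) * x = x * (y * c) ∧
      (inU (D.Φ (x⁻¹ * (c * x * c⁻¹))) → inU (D.Φ y)) := by
  set m := x⁻¹ * (c * x * c⁻¹) with hm
  have hmQ : m ∈ Q := by
    refine mem_Q_of_rho D ?_
    rw [map_mul, map_mul, map_mul, map_inv, map_inv, inv_mul_eq_one, eq_mul_inv_iff_mul_eq]
    refine Equiv.ext fun v => ?_
    simp only [Equiv.Perm.mul_apply, hx]
    exact (hc v).symm
  obtain ⟨y, hy, hye⟩ := D.surj (wW (wW (D.Φ m)))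
  refine ⟨y, hy, ?_, fun h => hye ▸ (qf_U _ (qf_U _ h).2).2⟩
  have hx' : ∀ v, D.ρ x⁻¹ v = wW (wW v) := fun v => by
    rw [map_inv]
    refine (D.ρ x).injective ?_
    rw [Equiv.Perm.inv_def, Equiv.apply_symm_apply, hx, wW3]
  have hyx : x⁻¹ * y * x ∈ Q := by
    simpa using Subgroup.Normal.conj_mem inferInstance y hy x⁻¹
  have hyxΦ : D.Φ (x⁻¹ * y * x) = wW (wW (D.Φ y)) := by
    rw [← hx', D.conj x⁻¹ y hy, inv_inv]
  have hΦ : D.Φ (x⁻¹ * y * x * m * y⁻¹) = 0 := by
    rw [D.map_mul _ (mul_mem hyx hmQ) _ (inv_mem hy), D.map_mul _ hyx _ hmQ, phi_inv D hy, hyxΦ, hye,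
      add_right_comm, wW_sum, wW3]
    exact ZModModule.add_self _
  set n := x⁻¹ * y * x * m * y⁻¹ with hn
  have hnQ : n ∈ Q := mul_mem (mul_mem hyx hmQ) (inv_mem hy)
  have hconj : y * c * x * (y * c)⁻¹ = x * n := by rw [hn, hm]; group
  rcases (D.eq_zero _ hnQ).1 hΦ with h | h
  · have hn1 : n = 1 := Subtype.ext h
    rw [hn1, mul_one] at hconj
    exact mul_inv_eq_iff_eq_mul.1 hconj
  · exfalso
    have hcube : x * n * (x * n) * (x * n) = 1 := by
      rw [← hconj]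
      calc _ = y * c * (x * x * x) * (y * c)⁻¹ := by group
        _ = 1 := by rw [hx3]; group
    have hc' : x * n = n * x := Subtype.ext (by
      simp only [Subgroup.coe_mul, h]
      exact Subgroup.mem_centralizer_singleton_iff.1 x.2)
    have hnn : n * n = 1 := Subtype.ext (by
      simp only [Subgroup.coe_mul, h, Subgroup.coe_one]; rw [← pow_two, ← hz, pow_orderOf_eq_one])
    have : n = 1 := by
      calc n = x * x * x * (n * n * n) := by rw [hx3, hnn, one_mul, one_mul]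
        _ = x * n * (x * n) * (x * n) := by
          simp only [mul_assoc]
          rw [← mul_assoc n x, ← hc', mul_assoc x n, ← mul_assoc n x, ← hc', mul_assoc x n,
            ← mul_assoc n x, ← hc', mul_assoc x n]
        _ = 1 := hcube
    rw [this, Subgroup.coe_one] at h
    rw [← h, orderOf_one] at hz; omega

theorem conj_Wt {g : Subgroup.centralizer ({z} : Set G)} (hg : ∀ v, inU v → inU (D.ρ g v))
    {w : Subgroup.centralizer ({z} : Set G)} (hw : w ∈ Wt D) : g * w * g⁻¹ ∈ Wt D :=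
  ⟨Subgroup.Normal.conj_mem inferInstance w hw.1 g, by rw [← D.conj g w hw.1]; exact hg _ hw.2⟩

theorem conj_CC {g : Subgroup.centralizer ({z} : Set G)} (hg : ∀ v, inU v → inU (D.ρ g⁻¹ v))
    (hA : ∀ a ∈ AA, D.ρ g * a * (D.ρ g)⁻¹ ∈ AA) {c : Subgroup.centralizer ({z} : Set G)}
    (hc : c ∈ CC D) : g * c * g⁻¹ ∈ CC D := by
  obtain ⟨h1, h2⟩ := (mem_CC D).1 hc
  refine (mem_CC D).2 ⟨by rw [map_mul, map_mul, map_inv]; exact hA _ h1, fun w hw => ?_⟩
  have := h2 _ (conj_Wt D hg hw)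
  calc g * c * g⁻¹ * w = g * (c * (g⁻¹ * w * g⁻¹⁻¹)) * g⁻¹ := by group
    _ = g * (g⁻¹ * w * g⁻¹⁻¹ * c) * g⁻¹ := by rw [this]
    _ = w * (g * c * g⁻¹) := by group

theorem comm_wW_K0 {a : Equiv.Perm W} (ha : a ∈ K0) (v : W) : a (wW v) = wW (a v) :=
  (isUni_K0 ha).wcomm v

/-- Lifts commuting with the scalar element. -/
theorem exists_CC_fix (hz : orderOf z = 2) (hx3 : x * x * x = 1) (hx : ⇑(D.ρ x) = wW) {a : Equiv.Perm W}
    (ha : a ∈ AA) : ∃ c ∈ CC D, D.ρ c = a ∧ c * x = x * c := by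
  obtain ⟨c, hc, rfl⟩ := exists_CC D hz ha
  obtain ⟨y, hy, hcomm, hU⟩ := exists_fix D hz hx3 hx (c := c) (comm_wW_K0 ((mem_CC D).1 hc).1.1)
  have hρ : D.ρ (y * c) = D.ρ c := by rw [map_mul, rho_Q D hy, one_mul]
  refine ⟨y * c, mul_mem ?_ hc, hρ, hcomm⟩
  have hxinv : ∀ v, inU v → inU (D.ρ x⁻¹ v) := fun v hv => by
    have e : D.ρ x⁻¹ v = wW (wW v) := by
      rw [map_inv]
      refine (D.ρ x).injective ?_
      rw [Equiv.Perm.inv_def, Equiv.apply_symm_apply, hx, wW3]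
    rw [e]; exact (qf_U _ (qf_U _ hv).2).2
  have hxa : ∀ a ∈ AA, D.ρ x⁻¹ * a * (D.ρ x⁻¹)⁻¹ = a := by
    intro a ha
    rw [map_inv, inv_inv, mul_assoc, inv_mul_eq_iff_eq_mul]
    refine Equiv.ext fun v => ?_
    simp only [Equiv.Perm.mul_apply, hx]
    exact comm_wW_K0 ha.1 v
  have h1 : x⁻¹ * c * x ∈ CC D := by
    have := conj_CC D (g := x⁻¹) (by rw [inv_inv, hx]; exact fun v hv => (qf_U v hv).2)
      (fun a ha => (hxa a ha).symm ▸ ha) hc
    rwa [inv_inv] at this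
  have hm : x⁻¹ * (c * x * c⁻¹) ∈ Wt D := by
    rw [← CC_inf_Q]
    refine ⟨?_, mem_Q_of_rho D ?_⟩
    · rw [show x⁻¹ * (c * x * c⁻¹) = x⁻¹ * c * x * c⁻¹ by group]
      exact mul_mem h1 ((CC D).inv_mem hc)
    · rw [map_mul, map_mul, map_mul, map_inv, map_inv, inv_mul_eq_one, eq_mul_inv_iff_mul_eq]
      refine Equiv.ext fun v => ?_
      simp only [Equiv.Perm.mul_apply, hx]
      exact (comm_wW_K0 ((mem_CC D).1 hc).1.1 v).symm
  exact (CC_inf_Q D).ge ⟨hy, hU hm.2⟩ |>.1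

end Scalar

end H59.Fi24
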