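import Cfsg.Agent.H59.Fischer.Max

/-!
The pointwise stabiliser of the fixed space.
-/

set_option autoImplicit false
set_option maxRecDepth 100000

namespace H59.Fi24

open H16.Fi24

/-- The maps of the matrix group fixing the space pointwise. -/
def fixU : Subgroup (Equiv.Perm W) where
  carrier := {x | x ∈ K0 ∧ ∀ v, inU v → x v = v}
  one_mem' := ⟨one_mem _, fun _ _ => rfl⟩
  mul_mem' {a b} ha hb := ⟨mul_mem ha.1 hb.1, fun v hv => by rw [Equiv.Perm.mul_apply, hb.2 v hv, ha.2 v hv]⟩
  inv_mem' {a} ha := ⟨inv_mem ha.1, fun v hv => by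
    conv_lhs => rw [← ha.2 v hv]
    exact a.symm_apply_apply v⟩

theorem fixU_sq {x : Equiv.Perm W} (hx : x ∈ fixU) : x * x = 1 := by
  refine Equiv.ext fun v => ?_
  have h : inU (x v + v) := orth_U _ fun u hu => by
    have hU : inU (dec u) := by
      obtain ⟨i, hi, rfl⟩ := exists_getD_of_mem (d := 0) hu
      exact (dual_U i hi).1
    have hq : ∀ a b, Bf (x a) (x b) = Bf a b := fun a b => by
      simp only [Bf, ← (isUni_K0 hx.1).add, (isUni_K0 hx.1).q]
    have h0 : Bf (x v) (dec u) = Bf v (dec u) := by rw [← hq v (dec u), hx.2 _ hU]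
    rw [Bf_add_left, h0]
    exact ZModModule.add_self _
  have h2 := hx.2 _ h
  rw [(isUni_K0 hx.1).add] at h2
  rw [Equiv.Perm.mul_apply, Equiv.Perm.one_apply]
  calc x (x v) = x (x v) + x v + x v := by rw [add_assoc, ZModModule.add_self, add_zero]
    _ = v := by rw [h2, add_comm (x v) v, add_assoc, ZModModule.add_self, add_zero]

/-- It is the group of order sixteen. -/
theorem fixU_eq (hK : Nat.card K0 = 9797760) : fixU = AA := by
  have hle : AA ≤ fixU := fun a ha => ⟨ha.1, fun v hv => fix_U_AA hv ha⟩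
  have hinv : ∀ a ∈ fixU, a⁻¹ = a := fun a ha => inv_eq_of_mul_eq_one_right (fixU_sq ha)
  have hcomm : ∀ a ∈ fixU, ∀ b ∈ fixU, a * b = b * a := fun a ha b hb => by
    rw [← hinv _ (mul_mem ha hb), mul_inv_rev, hinv a ha, hinv b hb]
  have h16 : 16 ≤ Nat.card fixU := card_AA ▸ Subgroup.card_le_of_le hle
  obtain ⟨k, -, hk⟩ := conj_eq_AA_or_NN hK (E := fixU) (fun a ha => ha.1) hcomm (fun a ha => fixU_sq ha) h16
  have hcard : Nat.card fixU = 16 := by
    rw [← Subgroup.card_map_of_injective (f := (MulAut.conj k).toMonoidHom) (MulAut.conj k).injective]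
    rcases hk with h | h <;> rw [h]
    · exact card_AA
    · exact card_NN
  exact (Subgroup.eq_of_le_of_card_ge hle (by rw [hcard, card_AA])).symm

/-- The form used for self-centralisation. -/
theorem mem_AA_of_fix (hK : Nat.card K0 = 9797760) {x : Equiv.Perm W} (hx : x ∈ K0)
    (h : ∀ v, inU v → x v = v) : x ∈ AA :=
  fixU_eq hK ▸ (⟨hx, h⟩ : x ∈ fixU)

end H59.Fi24
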