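import Cfsg.Agent.H59.Fischer.Thomp

/-!
Carrying statements on a subgroup and its normalizer along conjugation.
-/

set_option autoImplicit false

namespace H59.Fi24

universe u v

variable {G : Type u} [Group G] {A B : Subgroup G} {g : G}

theorem mem_of_map_eq (h : A.map (MulAut.conj g).toMonoidHom = B) {a : G} :
    g * a * g⁻¹ ∈ B ↔ a ∈ A := by
  rw [← h]
  exact Subgroup.mem_map_iff_mem (f := (MulAut.conj g).toMonoidHom) (MulAut.conj g).injective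

theorem normalizer_map_eq (h : A.map (MulAut.conj g).toMonoidHom = B) :
    (Subgroup.normalizer (A : Set G)).map (MulAut.conj g).toMonoidHom = Subgroup.normalizer (B : Set G) := by
  rw [← h]
  exact Subgroup.map_equiv_normalizer_eq A (MulAut.conj g)

/-- The three clauses on fusion and orbits are carried back. -/
theorem orbits_of_conj {z : G} (h : A.map (MulAut.conj g).toMonoidHom = B)
    (h1 : ∀ a ∈ B, ∀ x : G, x * a * x⁻¹ ∈ B →
      ∃ m ∈ Subgroup.normalizer (B : Set G), m * a * m⁻¹ = x * a * x⁻¹)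
    (h2 : ∃ a ∈ B, a ≠ 1 ∧ IsConj z a) (h3 : ∃ a ∈ B, a ≠ 1 ∧ ¬ IsConj z a)
    (h4 : ∀ a ∈ B, ∀ b ∈ B, a ≠ 1 → b ≠ 1 → (IsConj z a ↔ IsConj z b) →
      ∃ m ∈ Subgroup.normalizer (B : Set G), m * a * m⁻¹ = b) :
    (∀ a ∈ A, ∀ x : G, x * a * x⁻¹ ∈ A →
      ∃ m ∈ Subgroup.normalizer (A : Set G), m * a * m⁻¹ = x * a * x⁻¹) ∧
    (∃ a ∈ A, a ≠ 1 ∧ IsConj z a) ∧ (∃ a ∈ A, a ≠ 1 ∧ ¬ IsConj z a) ∧
    ∀ a ∈ A, ∀ b ∈ A, a ≠ 1 → b ≠ 1 → (IsConj z a ↔ IsConj z b) →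
      ∃ m ∈ Subgroup.normalizer (A : Set G), m * a * m⁻¹ = b := by
  have hback : ∀ b ∈ B, g⁻¹ * b * g ∈ A ∧ (IsConj z b ↔ IsConj z (g⁻¹ * b * g)) := fun b hb => by
    have hc : IsConj b (g⁻¹ * b * g) := isConj_iff.2 ⟨g⁻¹, by group⟩
    exact ⟨(mem_of_map_eq h).1 (by rwa [show g * (g⁻¹ * b * g) * g⁻¹ = b by group]),
      fun e => e.trans hc, fun e => e.trans hc.symm⟩
  have hfwd : ∀ a, IsConj z a ↔ IsConj z (g * a * g⁻¹) := fun a => by
    have hc : IsConj a (g * a * g⁻¹) := isConj_iff.2 ⟨g, rfl⟩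
    exact ⟨fun e => e.trans hc, fun e => e.trans hc.symm⟩
  have hne : ∀ a : G, a ≠ 1 → g * a * g⁻¹ ≠ 1 := fun a ha e => ha (conj_eq_one_iff.1 e)
  have hne' : ∀ a : G, a ≠ 1 → g⁻¹ * a * g ≠ 1 := fun a ha e => ha <| by
    rw [show a = g * (g⁻¹ * a * g) * g⁻¹ by group, e]; group
  have hM : ∀ m ∈ Subgroup.normalizer (B : Set G), g⁻¹ * m * g ∈ Subgroup.normalizer (A : Set G) := by
    intro m hm
    exact (mem_of_map_eq (normalizer_map_eq h)).1 (by rwa [show g * (g⁻¹ * m * g) * g⁻¹ = m by group])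
  refine ⟨?_, ?_, ?_, ?_⟩
  · intro a ha x hx
    have e : g * x * g⁻¹ * (g * a * g⁻¹) * (g * x * g⁻¹)⁻¹ = g * (x * a * x⁻¹) * g⁻¹ := by group
    obtain ⟨m, hm, hma⟩ := h1 _ ((mem_of_map_eq h).2 ha) (g * x * g⁻¹) (by
      rw [e]; exact (mem_of_map_eq h).2 hx)
    refine ⟨_, hM m hm, ?_⟩
    rw [e] at hma
    calc g⁻¹ * m * g * a * (g⁻¹ * m * g)⁻¹ = g⁻¹ * (m * (g * a * g⁻¹) * m⁻¹) * g := by group
      _ = _ := by rw [hma]; group
  · obtain ⟨b, hb, hb1, hz⟩ := h2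
    exact ⟨_, (hback b hb).1, hne' b hb1, (hback b hb).2.1 hz⟩
  · obtain ⟨b, hb, hb1, hz⟩ := h3
    exact ⟨_, (hback b hb).1, hne' b hb1, fun e => hz ((hback b hb).2.2 e)⟩
  · intro a ha b hb ha1 hb1 hiff
    obtain ⟨m, hm, hma⟩ := h4 _ ((mem_of_map_eq h).2 ha) _ ((mem_of_map_eq h).2 hb) (hne a ha1) (hne b hb1)
      (by rw [← hfwd, ← hfwd]; exact hiff)
    refine ⟨_, hM m hm, ?_⟩
    calc g⁻¹ * m * g * a * (g⁻¹ * m * g)⁻¹ = g⁻¹ * (m * (g * a * g⁻¹) * m⁻¹) * g := by group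
      _ = _ := by rw [hma]; group

/-- The quotient of the normalizer is carried back. -/
theorem quotient_of_conj {K : Type v} [Group K] (h : A.map (MulAut.conj g).toMonoidHom = B)
    (hB : ∃ _ : (B.subgroupOf (Subgroup.normalizer (B : Set G))).Normal,
      Nonempty (↥(Subgroup.normalizer (B : Set G)) ⧸ B.subgroupOf (Subgroup.normalizer (B : Set G)) ≃* K)) :
    ∃ _ : (A.subgroupOf (Subgroup.normalizer (A : Set G))).Normal,
      Nonempty (↥(Subgroup.normalizer (A : Set G)) ⧸ A.subgroupOf (Subgroup.normalizer (A : Set G)) ≃* K) := by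
  obtain ⟨hn, ⟨e⟩⟩ := hB
  haveI := hn
  let f : ↥(Subgroup.normalizer (A : Set G)) ≃* ↥(Subgroup.normalizer (B : Set G)) :=
    (Subgroup.equivMapOfInjective _ (MulAut.conj g).toMonoidHom (MulAut.conj g).injective).trans
      (MulEquiv.subgroupCongr (normalizer_map_eq h))
  have hf : ∀ x, (f x : G) = g * x * g⁻¹ := fun x => rfl
  have hmap : (A.subgroupOf (Subgroup.normalizer (A : Set G))).map f.toMonoidHom =
      B.subgroupOf (Subgroup.normalizer (B : Set G)) := by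
    ext y
    constructor
    · rintro ⟨x, hx, rfl⟩
      show (f x : G) ∈ B
      rw [hf]
      exact (mem_of_map_eq h).2 hx
    · intro hy
      refine ⟨f.symm y, ?_, f.apply_symm_apply y⟩
      show ((f.symm y : ↥(Subgroup.normalizer (A : Set G))) : G) ∈ A
      refine (mem_of_map_eq h).1 ?_
      rw [← hf, f.apply_symm_apply]
      exact hy
  exact ⟨inferInstance, ⟨(QuotientGroup.congr _ _ f hmap).trans e⟩⟩

end H59.Fi24
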