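import Cfsg.Agent.H59.Fischer.SelfCent
import Cfsg.Agent.H59.Fischer.Transfer
import Cfsg.Agent.H59.Fischer.Fixer
import Cfsg.Agent.H33.FiLocal.Count

/-!
Fusion and orbits on the Thompson subgroup from the data at the involution.
-/

set_option autoImplicit false
set_option maxRecDepth 100000

namespace H59.Fi24

open H16.Fi24

universe u

variable {G : Type u} [Group G] [Finite G] {z : G}
  {Q : Subgroup (Subgroup.centralizer ({z} : Set G))} [Q.Normal]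

theorem normalizer_conj_mem {A : Subgroup G} {m a : G} (hm : m ∈ Subgroup.normalizer (A : Set G))
    (ha : a ∈ A) : m * a * m⁻¹ ∈ A :=
  (Subgroup.mem_normalizer_iff.1 hm a).1 ha

/-- An element commuting with the subgroup of lifts lies in it. -/
theorem self_cent_AG (hF : Cfsg.IsOfLargeFischerTypeAt z Q) (D : Model z Q) {m : G}
    (hm : ∀ a ∈ AG D, m * a * m⁻¹ = a) : m ∈ AG D :=
  self_cent hF D (fun _ hx h => mem_AA_of_fix D.card_K0 hx h) hm

/-- The counts on the subgroup of lifts. -/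
theorem counts_AG (hF : Cfsg.IsOfLargeFischerTypeAt z Q) (D : Model z Q)
    (P : H33.FiLocal.Parts (AG D) (Subgroup.normalizer (AG D : Set G)) z) :
    {a : G | a ∈ AG D ∧ IsConj z a}.ncard = 1771 ∧
      {a : G | a ∈ AG D ∧ a ≠ 1 ∧ ¬ IsConj z a}.ncard = 276 ∧
      Nat.card ↥(Subgroup.normalizer (AG D : Set G)) =
        1771 * Nat.card ↥(Subgroup.normalizer (AG D : Set G) ⊓ Subgroup.centralizer ({z} : Set G)) ∧
      (∀ a ∈ AG D, ∀ b ∈ AG D, a ≠ 1 → b ≠ 1 → (IsConj z a ↔ IsConj z b) →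
        ∃ m ∈ Subgroup.normalizer (AG D : Set G), m * a * m⁻¹ = b) :=
  H33.FiLocal.orbit_count (ea_AG D hF.1.1) (card_AG D hF.1.1) (z_mem_AG D hF.1.1) hF.1.1
    (fun _ hm _ ha => normalizer_conj_mem hm ha) (fun _ _ h => self_cent_AG hF D h)
    (fun _ ha _ hb => fusion_AG hF D ha hb) P

/-- Fusion and orbits for a Sylow subgroup. -/
theorem fusion_and_orbits (hF : Cfsg.IsOfLargeFischerTypeAt z Q) (D : Model z Q)
    (P : H33.FiLocal.Parts (AG D) (Subgroup.normalizer (AG D : Set G)) z) (T : Sylow 2 G)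
    (A M : Subgroup G) (hA : A = Cfsg.thompsonSubgroupOf 2 (T : Subgroup G))
    (hM : M = Subgroup.normalizer (A : Set G)) :
    (∀ a ∈ A, ∀ g : G, g * a * g⁻¹ ∈ A → ∃ m ∈ M, m * a * m⁻¹ = g * a * g⁻¹) ∧
      (∃ a ∈ A, a ≠ 1 ∧ IsConj z a) ∧ (∃ a ∈ A, a ≠ 1 ∧ ¬ IsConj z a) ∧
      ∀ a ∈ A, ∀ b ∈ A, a ≠ 1 → b ≠ 1 → (IsConj z a ↔ IsConj z b) → ∃ m ∈ M, m * a * m⁻¹ = b := by
  subst hM hA
  obtain ⟨g, hg⟩ := thompson_conj hF D T
  obtain ⟨-, h276, -, htrans⟩ := counts_AG hF D P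
  obtain ⟨a, ha, ha1, hna⟩ := Set.nonempty_of_ncard_ne_zero (by rw [h276]; norm_num :
    {a : G | a ∈ AG D ∧ a ≠ 1 ∧ ¬ IsConj z a}.ncard ≠ 0)
  have hz1 : z ≠ 1 := fun h => by have := hF.1.1; rw [h, orderOf_one] at this; omega
  exact orbits_of_conj hg (fun _ hb _ hx => fusion_AG hF D hb hx)
    ⟨z, z_mem_AG D hF.1.1, hz1, IsConj.refl z⟩ ⟨a, ha, ha1, hna⟩ htrans

end H59.Fi24
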