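import Cfsg.Agent.H59.Fischer.Ops

/-!
Groups inside the matrix group from certificates: a Sylow 2-subgroup and a Sylow 2-subgroup of the
other point stabiliser.
-/

set_option autoImplicit false
set_option maxRecDepth 100000

namespace H59.Fi24

open H16.Fi24

theorem getD_mem {α : Type} {l : List α} {i : ℕ} {d : α} (h : i < l.length) : l.getD i d ∈ l := by
  rw [List.getD_eq_getElem _ _ h]
  exact List.getElem_mem _

theorem exists_getD_of_mem {α : Type} {l : List α} {a d : α} (h : a ∈ l) :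
    ∃ i < l.length, l.getD i d = a := by
  obtain ⟨i, hi, e⟩ := List.mem_iff_getElem.1 h
  exact ⟨i, hi, by rw [List.getD_eq_getElem _ _ hi]; exact e⟩

/-- The group generated by a list of words. -/
def wgrp (gw : List (List (Fin 10))) : Subgroup (Equiv.Perm W) :=
  Subgroup.closure {g | ∃ l ∈ gw, g = wordP l}

theorem wgrp_le (gw : List (List (Fin 10))) : wgrp gw ≤ K0 := by
  rw [wgrp, Subgroup.closure_le]
  rintro g ⟨l, -, rfl⟩
  exact wordP_mem l

section Cert

variable {gw : List (List (Fin 10))} {g L : List ℕ} {par : List (ℕ × ℕ)} {tbl : List (List ℕ)}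

theorem key_gen (hc : GroupCert gw g L par tbl) {i : ℕ} (hi : i < g.length) :
    key (wordP (gw.getD i [])) = g.getD i 0 := by
  rw [key_wordP KT_ok]
  exact hc.2.2.2.1 i hi

theorem key_mem_wgrp (hc : GroupCert gw g L par tbl) (hL : 0 < L.length) {x : Equiv.Perm W}
    (hx : x ∈ wgrp gw) : key x ∈ L := by
  obtain ⟨hlen, -, h0, -, htbl, -⟩ := id hc
  rw [wgrp, ← Subgroup.mem_toSubmonoid, Subgroup.closure_toSubmonoid_of_finite] at hx
  induction hx using Submonoid.closure_induction_left with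
  | one => rw [key_one, ← h0]; exact getD_mem hL
  | mul_left a ha y hy ih =>
    obtain ⟨l, hl, rfl⟩ := ha
    obtain ⟨i, hi, rfl⟩ := exists_getD_of_mem (d := []) hl
    obtain ⟨e, he, hey⟩ := exists_getD_of_mem (d := 0) ih
    have hi' : i < g.length := hlen ▸ hi
    obtain ⟨ht, hk⟩ := htbl i hi' e he
    rw [key_K0_mul (wordP_mem _), key_gen hc hi', ← hey, hk]
    exact getD_mem ht

theorem exists_key_wgrp (hc : GroupCert gw g L par tbl) {e : ℕ} (he : e < L.length) :
    ∃ x ∈ wgrp gw, key x = L.getD e 0 := by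
  obtain ⟨hlen, -, h0, -, -, hpar⟩ := id hc
  induction e using Nat.strong_induction_on with
  | _ e ih =>
    rcases hpar e he with rfl | ⟨h1, h2, h3⟩
    · exact ⟨1, one_mem _, by rw [key_one, h0]⟩
    · obtain ⟨x, hx, hkx⟩ := ih _ h2 (lt_trans h2 he)
      refine ⟨wordP (gw.getD (par.getD e (0, 0)).1 []) * x,
        mul_mem (Subgroup.subset_closure ⟨_, getD_mem (hlen ▸ h1), rfl⟩) hx, ?_⟩
      rw [key_K0_mul (wordP_mem _), key_gen hc h1, hkx, h3]

theorem card_wgrp (hc : GroupCert gw g L par tbl) (hL : 0 < L.length) :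
    Nat.card (wgrp gw) = L.length := by
  obtain ⟨-, hnd, -, -, -, -⟩ := id hc
  have himg : key '' (wgrp gw : Set (Equiv.Perm W)) = (L.toFinset : Set ℕ) := by
    refine Set.Subset.antisymm ?_ ?_
    · rintro k ⟨x, hx, rfl⟩
      exact List.mem_toFinset.2 (key_mem_wgrp hc hL hx)
    · intro k hk
      obtain ⟨e, he, rfl⟩ := exists_getD_of_mem (d := 0) (List.mem_toFinset.1 hk)
      obtain ⟨x, hx, hkx⟩ := exists_key_wgrp hc he
      exact ⟨x, hx, hkx⟩
  have hinj : Set.InjOn key (wgrp gw : Set (Equiv.Perm W)) := fun a ha b hb e =>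
    key_K0_inj (wgrp_le gw ha) (wgrp_le gw hb) e
  calc Nat.card (wgrp gw) = Set.ncard (wgrp gw : Set (Equiv.Perm W)) := rfl
    _ = Set.ncard (key '' (wgrp gw : Set (Equiv.Perm W))) := (Set.ncard_image_of_injOn hinj).symm
    _ = L.length := by rw [himg, Set.ncard_coe_finset, List.toFinset_card_of_nodup hnd]

end Cert

/-- A Sylow 2-subgroup of the matrix group. -/
def PP : Subgroup (Equiv.Perm W) := wgrp gwP

/-- A Sylow 2-subgroup of a stabiliser in the first class. -/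
def RR : Subgroup (Equiv.Perm W) := wgrp gwR

theorem PP_le : PP ≤ K0 := wgrp_le _

theorem RR_le : RR ≤ K0 := wgrp_le _

theorem key_PP {x : Equiv.Perm W} (hx : x ∈ PP) : key x ∈ LP :=
  key_mem_wgrp certP (by rw [len_P]; norm_num) hx

theorem key_RR {x : Equiv.Perm W} (hx : x ∈ RR) : key x ∈ LR :=
  key_mem_wgrp certR (by rw [len_R]; norm_num) hx

theorem card_PP : Nat.card PP = 128 :=
  (card_wgrp certP (by rw [len_P]; norm_num)).trans len_P

theorem card_RR : Nat.card RR = 64 :=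
  (card_wgrp certR (by rw [len_R]; norm_num)).trans len_R

theorem exists_PP {k : ℕ} (hk : k ∈ LP) : ∃ x ∈ PP, key x = k := by
  obtain ⟨e, he, rfl⟩ := exists_getD_of_mem (d := 0) hk
  exact exists_key_wgrp certP he

theorem wgrp_fix {gw : List (List (Fin 10))} {g : List ℕ} (v : ℕ) (hv : v < 4096)
    (hlen : gw.length = g.length) (hk : ∀ i < g.length, key (wordP (gw.getD i [])) = g.getD i 0)
    (hfix : ∀ a ∈ g, appN a v = v) {x : Equiv.Perm W} (hx : x ∈ wgrp gw) : x (dec v) = dec v := by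
  have : wgrp gw ≤ MulAction.stabilizer (Equiv.Perm W) (dec v) := by
    rw [wgrp, Subgroup.closure_le]
    rintro a ⟨l, hl, rfl⟩
    obtain ⟨i, hi, rfl⟩ := exists_getD_of_mem (d := []) hl
    rw [SetLike.mem_coe, MulAction.mem_stabilizer_iff, Equiv.Perm.smul_def,
      ← dec_code (wordP (gw.getD i []) (dec v)), ← appN_key (isUni_K0 (wordP_mem _)), code_dec hv,
      hk i (hlen ▸ hi), hfix _ (getD_mem (hlen ▸ hi))]
  exact this hx

theorem PP_fix {x : Equiv.Perm W} (hx : x ∈ PP) : x (dec v3) = dec v3 :=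
  wgrp_fix v3 (by decide) certP.1 (fun _ hi => key_gen certP hi) fix_gP hx

theorem RR_fix {x : Equiv.Perm W} (hx : x ∈ RR) : x (dec v2) = dec v2 :=
  wgrp_fix v2 (by decide) certR.1 (fun _ hi => key_gen certR hi) fix_gR hx

/-- The subgroup of `PP` of elements with code in a closed list. -/
def four {L ix g : List ℕ} (hc : FourCert L ix g) : Subgroup (Equiv.Perm W) where
  carrier := {x | x ∈ K0 ∧ key x ∈ L}
  one_mem' := ⟨one_mem _, key_one.symm ▸ hc.2.2.1⟩
  mul_mem' {a b} ha hb := ⟨mul_mem ha.1 hb.1, by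
    rw [key_K0_mul ha.1]; exact (hc.2.2.2.2.1 _ ha.2 _ hb.2).1⟩
  inv_mem' {a} ha := by
    have h : a * a = 1 := (key_eq_one (mul_mem ha.1 ha.1)).1 (by
      rw [key_K0_mul ha.1]; exact hc.2.2.2.2.2.1 _ ha.2)
    rw [inv_eq_of_mul_eq_one_right h]
    exact ha

/-- The first elementary abelian group of order 16. -/
def AA : Subgroup (Equiv.Perm W) := four certA

/-- The second one. -/
def NN : Subgroup (Equiv.Perm W) := four certN

theorem mem_AA {x : Equiv.Perm W} : x ∈ AA ↔ x ∈ K0 ∧ key x ∈ LA := Iff.rfl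

theorem mem_NN {x : Equiv.Perm W} : x ∈ NN ↔ x ∈ K0 ∧ key x ∈ LN := Iff.rfl

theorem four_comm {L ix g : List ℕ} (hc : FourCert L ix g) {a b : Equiv.Perm W} (ha : a ∈ four hc)
    (hb : b ∈ four hc) : a * b = b * a :=
  key_K0_inj (mul_mem ha.1 hb.1) (mul_mem hb.1 ha.1) (by
    rw [key_K0_mul ha.1, key_K0_mul hb.1]; exact (hc.2.2.2.2.1 _ ha.2 _ hb.2).2)

theorem four_sq {L ix g : List ℕ} (hc : FourCert L ix g) {a : Equiv.Perm W} (ha : a ∈ four hc) :
    a * a = 1 :=
  (key_eq_one (mul_mem ha.1 ha.1)).1 (by rw [key_K0_mul ha.1]; exact hc.2.2.2.2.2.1 _ ha.2)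

theorem exists_four {L ix g : List ℕ} (hc : FourCert L ix g) {k : ℕ} (hk : k ∈ L) :
    ∃ x ∈ four hc, x ∈ PP ∧ key x = k := by
  obtain ⟨hlen, -, -, hix, -, -, -⟩ := id hc
  obtain ⟨i, hi, rfl⟩ := exists_getD_of_mem (d := 0) hk
  obtain ⟨h1, h2⟩ := hix i (hlen ▸ hi)
  obtain ⟨x, hx, hkx⟩ := exists_PP (k := LP.getD (ix.getD i 0) 0) (getD_mem (len_P.symm ▸ h1))
  exact ⟨x, ⟨PP_le hx, by rw [hkx, h2]; exact hk⟩, hx, hkx.trans h2⟩

theorem card_four {L ix g : List ℕ} (hc : FourCert L ix g) : Nat.card (four hc) = 16 := by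
  obtain ⟨hlen, hnd, -, -, -, -, -⟩ := id hc
  have himg : key '' (four hc : Set (Equiv.Perm W)) = (L.toFinset : Set ℕ) := by
    refine Set.Subset.antisymm ?_ ?_
    · rintro k ⟨x, hx, rfl⟩
      exact List.mem_toFinset.2 hx.2
    · intro k hk
      obtain ⟨x, hx, -, hkx⟩ := exists_four hc (List.mem_toFinset.1 hk)
      exact ⟨x, hx, hkx⟩
  have hinj : Set.InjOn key (four hc : Set (Equiv.Perm W)) := fun a ha b hb e =>
    key_K0_inj ha.1 hb.1 e
  calc Nat.card (four hc) = Set.ncard (four hc : Set (Equiv.Perm W)) := rfl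
    _ = Set.ncard (key '' (four hc : Set (Equiv.Perm W))) := (Set.ncard_image_of_injOn hinj).symm
    _ = L.length := by rw [himg, Set.ncard_coe_finset, List.toFinset_card_of_nodup hnd]
    _ = 16 := hlen

theorem card_AA : Nat.card AA = 16 := card_four certA

theorem card_NN : Nat.card NN = 16 := card_four certN

theorem AA_le_PP : AA ≤ PP := fun x hx => by
  obtain ⟨y, hy, hyP, e⟩ := exists_four certA hx.2
  rwa [key_K0_inj hx.1 hy.1 e.symm]

theorem factorization_K0 (hK : Nat.card K0 = 9797760) : Nat.card K0 = 2 ^ 7 * 76545 := by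
  rw [hK]; norm_num

theorem fix_U_AA {v : W} (hv : inU v) {a : Equiv.Perm W} (ha : a ∈ AA) : a v = v := by
  rw [← dec_code (a v), ← appN_key (isUni_K0 ha.1), fix_U v hv _ ha.2, dec_code]

theorem mem_U_of_fix {v : W} (h : ∀ a ∈ AA, a v = v) : inU v := by
  refine fix_A v fun k hk => ?_
  obtain ⟨a, ha, -, rfl⟩ := exists_four certA (certA.2.2.2.2.2.2 k hk)
  rw [appN_key (isUni_K0 ha.1), h a ha]

theorem fix_NN {v : W} (h : ∀ a ∈ NN, a v = v) : code v ∈ [0, v3, wc v3, wc (wc v3)] := by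
  refine fix_N v fun k hk => ?_
  obtain ⟨a, ha, -, rfl⟩ := exists_four certN (certN.2.2.2.2.2.2 k hk)
  rw [appN_key (isUni_K0 ha.1), h a ha]

theorem inU_add {u v : W} (hu : inU u) (hv : inU v) : inU (u + v) :=
  mem_U_of_fix fun a ha => by
    rw [(isUni_K0 ha.1).add, fix_U_AA hu ha, fix_U_AA hv ha]

theorem inU_zero : inU 0 := by decide +kernel

/-- An elementary abelian subgroup of order at least 16 of `PP` is one of the two. -/
theorem eq_AA_or_NN {B : Subgroup (Equiv.Perm W)} (hB : B ≤ PP) (hc : ∀ a ∈ B, ∀ b ∈ B, a * b = b * a)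
    (hsq : ∀ a ∈ B, a * a = 1) (hcard : 16 ≤ Nat.card B) : B = AA ∨ B = NN := by
  classical
  by_cases hA : B ≤ AA
  · exact Or.inl (Subgroup.eq_of_le_of_card_ge hA (card_AA ▸ hcard))
  by_cases hN : B ≤ NN
  · exact Or.inr (Subgroup.eq_of_le_of_card_ge hN (card_NN ▸ hcard))
  exfalso
  have hidx : ∀ b ∈ B, b ≠ 1 → ∃ x < 35, LI.getD x 0 = key b := by
    intro b hb hb1
    have hbK := PP_le (hB hb)
    have h := invol_P (key b) (key_PP (hB hb)) (by
      rw [← key_K0_mul hbK, hsq b hb, key_one])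
    rcases h with h | h
    · exact absurd ((key_eq_one hbK).1 h) hb1
    · obtain ⟨x, hx, e⟩ := exists_getD_of_mem (d := 0) h
      exact ⟨x, LI_ok.1 ▸ hx, e⟩
  obtain ⟨a, ha, haA⟩ := SetLike.not_le_iff_exists.1 hA
  obtain ⟨b, hb, hbN⟩ := SetLike.not_le_iff_exists.1 hN
  obtain ⟨x, hx, hxa⟩ := hidx a ha (fun e => haA (e ▸ one_mem _))
  obtain ⟨y, hy, hyb⟩ := hidx b hb (fun e => hbN (e ▸ one_mem _))
  have hbit : ∀ c ∈ B, ∀ d ∈ B, ∀ p < 35, ∀ q < 35, LI.getD p 0 = key c → LI.getD q 0 = key d →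
      (rowI.getD p 0).testBit q = true := by
    intro c hc' d hd p hp q hq ep eq
    refine row_ok p hp q hq ?_
    rw [ep, eq, ← key_K0_mul (PP_le (hB hc')), ← key_K0_mul (PP_le (hB hd)), hc c hc' d hd]
  have hcount := common_ok ⟨x, hx⟩ ⟨y, hy⟩
    (show LI.getD x 0 ∉ LA from hxa ▸ fun h => haA ⟨PP_le (hB ha), h⟩)
    (show LI.getD y 0 ∉ LN from hyb ▸ fun h => hbN ⟨PP_le (hB hb), h⟩)
    (hbit a ha b hb x hx y hy hxa hyb)
  set S := (List.range 35).filter fun w =>
      (rowI.getD x 0).testBit w && (rowI.getD y 0).testBit w with hS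
  have hinj : Set.InjOn key ((B : Set (Equiv.Perm W)) \ {1}) := fun p hp q hq e =>
    key_K0_inj (PP_le (hB hp.1)) (PP_le (hB hq.1)) e
  have hsub : key '' ((B : Set (Equiv.Perm W)) \ {1}) ⊆ (fun w => LI.getD w 0) '' (S.toFinset : Set ℕ) := by
    rintro k ⟨c, ⟨hc', hc1⟩, rfl⟩
    obtain ⟨w, hw, ew⟩ := hidx c hc' hc1
    refine ⟨w, ?_, ew⟩
    simp only [List.coe_toFinset, Set.mem_ofPred_eq, hS, List.mem_filter, List.mem_range,
      Bool.and_eq_true]
    exact ⟨hw, hbit a ha c hc' x hx w hw hxa ew, hbit b hb c hc' y hy w hw hyb ew⟩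
  have h1 := Set.ncard_le_ncard hsub (Set.toFinite _)
  have h2 : ((fun w => LI.getD w 0) '' (S.toFinset : Set ℕ)).ncard ≤ S.length := by
    refine (Set.ncard_image_le (Set.toFinite _)).trans ?_
    rw [Set.ncard_coe_finset]
    exact List.toFinset_card_le S
  have h3 : ((B : Set (Equiv.Perm W)) \ {1}).ncard = Nat.card B - 1 := by
    rw [Set.ncard_diff_singleton_of_mem (show (1 : Equiv.Perm W) ∈ (B : Set (Equiv.Perm W)) from one_mem B)]
    rfl
  rw [Set.ncard_image_of_injOn hinj, h3] at h1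
  omega

end H59.Fi24
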