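import Cfsg.Agent.H16.Fi24.Model

/-!
Packed numeric codes of the linear maps of the six-dimensional space over the field with four
elements: six columns of twelve bits each, with composition by exclusive or.
-/

set_option autoImplicit false
set_option maxRecDepth 100000

namespace H59.Fi24

open H16.Fi24

/-- Multiplication by the cube root of unity on a code. -/
def wc (c : ℕ) : ℕ := ((c >>> 1) &&& 1365) ||| (((c &&& 1365) ^^^ ((c >>> 1) &&& 1365)) <<< 1)

/-- A column. -/
def col (A j : ℕ) : ℕ := (A >>> (12 * j)) % 4096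

/-- The contribution of one column. -/
def sel (A c j : ℕ) : ℕ :=
  (if c.testBit (2 * j) then col A j else 0) ^^^ (if c.testBit (2 * j + 1) then wc (col A j) else 0)

/-- Application. -/
def appN (A c : ℕ) : ℕ :=
  sel A c 0 ^^^ sel A c 1 ^^^ sel A c 2 ^^^ sel A c 3 ^^^ sel A c 4 ^^^ sel A c 5

/-- Packing of six columns. -/
def pack (f : ℕ → ℕ) : ℕ :=
  f 0 + 4096 * (f 1 + 4096 * (f 2 + 4096 * (f 3 + 4096 * (f 4 + 4096 * f 5))))

/-- Composition. -/
def kmul (A B : ℕ) : ℕ := pack fun j => appN A (col B j)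

/-- Decoding of a vector. -/
def dec (c : ℕ) : W := fun i =>
  (if c.testBit (2 * i.val) then 1 else 0, if c.testBit (2 * i.val + 1) then 1 else 0)

/-- The unit vectors. -/
def uv (j : Fin 6) : W := Pi.single j (1, 0)

/-- The code of a map. -/
def key (g : Equiv.Perm W) : ℕ :=
  pack fun j => if h : j < 6 then code (g (uv ⟨j, h⟩)) else 0

theorem dec_xor (a b : ℕ) : dec (a ^^^ b) = dec a + dec b := by
  funext i
  simp only [dec, Pi.add_apply, Nat.testBit_xor]
  generalize a.testBit (2 * i.val) = p
  generalize a.testBit (2 * i.val + 1) = q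
  generalize b.testBit (2 * i.val) = r
  generalize b.testBit (2 * i.val + 1) = s
  revert p q r s
  decide

theorem dec_code : ∀ v : W, dec (code v) = v := forall_W (by decide +kernel)

theorem code_lt : ∀ v : W, code v < 4096 := forall_W (by decide +kernel)

theorem code_dec' : ∀ c : Fin 4096, code (dec c.val) = c.val := by decide +kernel

theorem code_dec {c : ℕ} (h : c < 4096) : code (dec c) = c := code_dec' ⟨c, h⟩

theorem dec_wc' : ∀ c : Fin 4096, dec (wc c.val) = wW (dec c.val) ∧ wc c.val < 4096 := by decide +kernel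

theorem dec_wc {c : ℕ} (h : c < 4096) : dec (wc c) = wW (dec c) ∧ wc c < 4096 := dec_wc' ⟨c, h⟩

theorem dec_zero : dec 0 = 0 := by decide +kernel

theorem col_lt (A j : ℕ) : col A j < 4096 := Nat.mod_lt _ (by norm_num)

theorem sel_lt (A c j : ℕ) : sel A c j < 4096 := by
  have h0 : (0 : ℕ) < 2 ^ 12 := by norm_num
  show sel A c j < 2 ^ 12
  rw [sel]
  refine Nat.xor_lt_two_pow ?_ ?_
  · split
    · exact col_lt A j
    · exact h0
  · split
    · exact (dec_wc (col_lt A j)).2
    · exact h0

theorem appN_lt (A c : ℕ) : appN A c < 4096 := by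
  show appN A c < 2 ^ 12
  rw [appN]
  exact Nat.xor_lt_two_pow (Nat.xor_lt_two_pow (Nat.xor_lt_two_pow (Nat.xor_lt_two_pow
    (Nat.xor_lt_two_pow (sel_lt A c 0) (sel_lt A c 1)) (sel_lt A c 2)) (sel_lt A c 3))
    (sel_lt A c 4)) (sel_lt A c 5)

theorem col_pack {f : ℕ → ℕ} (hf : ∀ j < 6, f j < 4096) {j : ℕ} (hj : j < 6) :
    col (pack f) j = f j := by
  have h0 := hf 0 (by norm_num); have h1 := hf 1 (by norm_num); have h2 := hf 2 (by norm_num)
  have h3 := hf 3 (by norm_num); have h4 := hf 4 (by norm_num); have h5 := hf 5 (by norm_num)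
  interval_cases j <;> simp only [col, pack, Nat.shiftRight_eq_div_pow, Nat.reduceMul,
    Nat.reducePow, Nat.div_one] <;> omega

theorem pack_congr {f g : ℕ → ℕ} (h : ∀ j < 6, f j = g j) : pack f = pack g := by
  simp only [pack, h 0 (by norm_num), h 1 (by norm_num), h 2 (by norm_num), h 3 (by norm_num),
    h 4 (by norm_num), h 5 (by norm_num)]

theorem col_key (g : Equiv.Perm W) (j : Fin 6) : col (key g) j.val = code (g (uv j)) := by
  rw [key, col_pack (fun i hi => by rw [dif_pos hi]; exact code_lt _) j.2, dif_pos j.2]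

theorem sum_single (x : W) : x = ∑ j, (Pi.single j (x j) : W) :=
  (Finset.univ_sum_single x).symm

theorem dec_appN_key {g : Equiv.Perm W} (hg : IsUni g) (x : W) :
    dec (appN (key g) (code x)) = g x := by
  have hsel : ∀ j : Fin 6, dec (sel (key g) (code x) j.val) = g (Pi.single j (x j)) := by
    intro j
    have hb : (x j) = (if (code x).testBit (2 * j.val) then (1 : ZMod 2) else 0,
        if (code x).testBit (2 * j.val + 1) then (1 : ZMod 2) else 0) := by
      conv_lhs => rw [← dec_code x]
      rfl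
    have h0 : g 0 = 0 := by
      have := hg.add 0 0
      rw [add_zero] at this
      exact left_eq_add.mp this
    have hw : ∀ i : Fin 6, wW (uv i) = Pi.single i (0, 1) ∧
        (uv i + Pi.single i (0, 1) : W) = Pi.single i (1, 1) := by decide +kernel
    have hz : ((0 : ZMod 2), (0 : ZMod 2)) = (0 : F4) := rfl
    rw [hb, sel, dec_xor, col_key]
    obtain ⟨hw1, hw2⟩ := hw j
    cases (code x).testBit (2 * j.val) <;> cases (code x).testBit (2 * j.val + 1) <;>
      simp only [if_true, if_false, Bool.false_eq_true, dec_zero, dec_code,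
        (dec_wc (code_lt _)).1, add_zero, zero_add, hz, Pi.single_zero, h0]
    · rw [← hg.wcomm, hw1]
    · rfl
    · rw [← hg.wcomm, ← hg.add, hw1, hw2]
  conv_rhs => rw [sum_single x]
  have : g (∑ j, (Pi.single j (x j) : W)) = ∑ j, g (Pi.single j (x j)) :=
    map_sum (AddMonoidHom.mk' g hg.add) _ _
  rw [this, Fin.sum_univ_six, ← hsel 0, ← hsel 1, ← hsel 2, ← hsel 3, ← hsel 4, ← hsel 5,
    appN, dec_xor, dec_xor, dec_xor, dec_xor, dec_xor]
  rfl

theorem appN_key {g : Equiv.Perm W} (hg : IsUni g) (x : W) : appN (key g) (code x) = code (g x) := by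
  conv_lhs => rw [← code_dec (appN_lt (key g) (code x)), dec_appN_key hg]

theorem key_mul {g : Equiv.Perm W} (hg : IsUni g) (h : Equiv.Perm W) :
    key (g * h) = kmul (key g) (key h) := by
  refine pack_congr fun j hj => ?_
  rw [dif_pos hj, show col (key h) j = code (h (uv ⟨j, hj⟩)) from col_key h ⟨j, hj⟩, appN_key hg]
  rfl

theorem key_inj {g h : Equiv.Perm W} (hg : IsUni g) (hh : IsUni h) (e : key g = key h) : g = h := by
  refine Equiv.ext fun x => ?_
  rw [← dec_appN_key hg x, e, dec_appN_key hh]

/-- The code of the identity. -/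
def one : ℕ := pack fun j => 4 ^ j

theorem key_one : key 1 = one := by decide +kernel

/-- Codes of the ten generators. -/
def KG (k : Fin 10) : ℕ := key (gen k)

/-- A product of generators. -/
def wordP : List (Fin 10) → Equiv.Perm W
  | [] => 1
  | k :: l => gen k * wordP l

theorem wordP_mem : ∀ l, wordP l ∈ K0
  | [] => one_mem _
  | k :: l => mul_mem (gen_mem k) (wordP_mem l)

theorem key_K0_mul {g : Equiv.Perm W} (hg : g ∈ K0) (h : Equiv.Perm W) :
    key (g * h) = kmul (key g) (key h) := key_mul (isUni_K0 hg) h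

theorem key_K0_inj {g h : Equiv.Perm W} (hg : g ∈ K0) (hh : h ∈ K0) (e : key g = key h) : g = h :=
  key_inj (isUni_K0 hg) (isUni_K0 hh) e

theorem key_eq_one {g : Equiv.Perm W} (hg : g ∈ K0) : key g = one ↔ g = 1 :=
  ⟨fun e => key_K0_inj hg (one_mem _) (e.trans key_one.symm), fun e => e ▸ key_one⟩

/-- The code of a product of generators, from a table of their codes. -/
def kw (T : List ℕ) : List (Fin 10) → ℕ
  | [] => one
  | k :: l => kmul (T.getD k.val 0) (kw T l)

theorem key_wordP {T : List ℕ} (hT : ∀ k : Fin 10, key (gen k) = T.getD k.val 0) :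
    ∀ l, key (wordP l) = kw T l
  | [] => key_one
  | k :: l => by rw [wordP, key_K0_mul (gen_mem k), hT, key_wordP hT l, kw]

end H59.Fi24
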