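import Cfsg.Agent.H59.Fischer.Grp

/-!
Totally singular subgroups, normal two-subgroups of point stabilisers, Sylow arguments, and the
maps commuting with the normal subgroup of order 16.
-/

set_option autoImplicit false
set_option maxRecDepth 100000
set_option maxHeartbeats 1000000

namespace H59.Fi24

open H16.Fi24

theorem qf_add (u v : W) : qf (u + v) = qf u + qf v + Bf u v := by
  simp only [Bf]
  generalize qf (u + v) = a
  generalize qf u = b
  generalize qf v = c
  revert a b c
  decide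

theorem Bf_symm (u v : W) : Bf u v = Bf v u := by
  simp only [Bf, add_comm u v]
  abel

theorem Bf_single_add : ∀ (i : Fin 6) (a a' b : F4),
    Bf (Pi.single i (a + a')) (Pi.single i b) =
      Bf (Pi.single i a) (Pi.single i b) + Bf (Pi.single i a') (Pi.single i b) := by
  decide +kernel

theorem Bf_single_single : ∀ (i : Fin 6) (a b : F4),
    Bf (Pi.single i a) (Pi.single i b) = (nz (a + b) : ZMod 2) + nz a + nz b := by decide +kernel

theorem Bf_add_right (w u v : W) : Bf w (u + v) = Bf w u + Bf w v := by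
  have hsum : ∀ x y : W, Bf x y = ∑ i, Bf (Pi.single i (x i)) (Pi.single i (y i)) := by
    intro x y
    have hq : ∀ z : W, qf z = ∑ j, (nz (z j) : ZMod 2) := fun z => by
      simp only [qf, cnt, Fin.sum_univ_six, Nat.cast_add]
    have hB : Bf x y = ∑ j, (nz (x j + y j) : ZMod 2) + ∑ j, (nz (x j) : ZMod 2) +
        ∑ j, (nz (y j) : ZMod 2) := by
      rw [Bf, hq, hq, hq]
      rfl
    rw [hB, ← Finset.sum_add_distrib, ← Finset.sum_add_distrib]
    exact Finset.sum_congr rfl fun j _ => (Bf_single_single j (x j) (y j)).symm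
  rw [hsum w (u + v), hsum w u, hsum w v, ← Finset.sum_add_distrib]
  refine Finset.sum_congr rfl fun i _ => ?_
  rw [show (u + v) i = u i + v i from rfl]
  have h : ∀ (i : Fin 6) (a b b' : F4), Bf (Pi.single i a) (Pi.single i (b + b')) =
      Bf (Pi.single i a) (Pi.single i b) + Bf (Pi.single i a) (Pi.single i b') := fun i a b b' => by
    rw [Bf_symm, Bf_single_add, Bf_symm (Pi.single i b), Bf_symm (Pi.single i b')]
  exact h i _ _ _

theorem Bf_add_left (u v w : W) : Bf (u + v) w = Bf u w + Bf v w := by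
  rw [Bf_symm, Bf_add_right, Bf_symm w u, Bf_symm w v]

theorem Bf_zero (w : W) : Bf w 0 = 0 := by
  have := Bf_add_right w 0 0
  rw [add_zero] at this
  exact left_eq_add.mp this

theorem nondeg_uv : ∀ v : W, (∀ i : Fin 6, ∀ b : F4, Bf v (Pi.single i b) = 0) → v = 0 := by
  intro v hv
  funext i
  have hc : ∀ (j : Fin 6) (a : F4), (∀ b : F4, Bf (Pi.single j a) (Pi.single j b) = 0) → a = 0 := by
    decide +kernel
  exact hc i (v i) fun b => (Bf_single v i b).symm.trans (hv i b)

theorem smul_two (c : ZMod 2) (v : W) : c • v = if c = 0 then 0 else v := by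
  rcases (show ∀ c : ZMod 2, c = 0 ∨ c = 1 by decide) c with rfl | rfl <;> simp

/-- The polar form as a bilinear form. -/
noncomputable def polarBil : LinearMap.BilinForm (ZMod 2) W :=
  LinearMap.mk₂ (ZMod 2) Bf Bf_add_left
    (fun c u v => by
      rcases (show ∀ c : ZMod 2, c = 0 ∨ c = 1 by decide) c with rfl | rfl
      · rw [zero_smul, zero_smul, Bf_symm, Bf_zero]
      · rw [one_smul, one_smul])
    Bf_add_right
    (fun c u v => by
      rcases (show ∀ c : ZMod 2, c = 0 ∨ c = 1 by decide) c with rfl | rfl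
      · rw [zero_smul, zero_smul, Bf_zero]
      · rw [one_smul, one_smul])

theorem polarBil_apply (u v : W) : polarBil u v = Bf u v := rfl

/-- A totally singular subgroup has at most 64 elements. -/
theorem card_totSing (T : AddSubgroup W) (hT : ∀ t ∈ T, qf t = 0) : Nat.card T ≤ 64 := by
  classical
  let S : Submodule (ZMod 2) W := AddSubgroup.toZModSubmodule 2 T
  have hmem : ∀ v, v ∈ S ↔ v ∈ T := fun v => Iff.rfl
  have hrefl : polarBil.IsRefl := fun x y h => by rwa [polarBil_apply, Bf_symm, ← polarBil_apply]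
  have hnd : polarBil.Nondegenerate := by
    refine ⟨fun x hx => nondeg_uv x fun i b => hx _, fun y hy => nondeg_uv y fun i b => ?_⟩
    rw [Bf_symm]
    exact hy _
  have hle : S ≤ polarBil.orthogonal S := by
    intro x hx
    rw [LinearMap.BilinForm.mem_orthogonal_iff]
    intro n hn
    show Bf n x = 0
    have h1 := hT _ (T.add_mem ((hmem n).1 hn) ((hmem x).1 hx))
    rw [qf_add, hT _ ((hmem n).1 hn), hT _ ((hmem x).1 hx), zero_add, zero_add] at h1
    exact h1
  have h1 := Submodule.finrank_mono hle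
  have h2 := LinearMap.BilinForm.finrank_orthogonal (B := polarBil) hnd S
  have hW : Module.finrank (ZMod 2) W = 12 := by
    rw [Module.finrank_pi_fintype]
    simp [Module.finrank_prod]
  rw [hW] at h2
  have h3 : Nat.card T = 2 ^ Module.finrank (ZMod 2) S := by
    have := Module.natCard_eq_pow_finrank (K := ZMod 2) (V := S)
    rw [Nat.card_zmod] at this
    exact this
  rw [h3]
  calc 2 ^ Module.finrank (ZMod 2) S ≤ 2 ^ 6 := Nat.pow_le_pow_right (by norm_num) (by omega)
    _ = 64 := by norm_num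

/-- A normal 2-subgroup lies in every subgroup of full 2-power order. -/
theorem normal_le_sylow {X : Type*} [Group X] [Finite X] {K N P : Subgroup X} {a m : ℕ}
    (hm : Odd m) (hK : Nat.card K = 2 ^ a * m) (hP : Nat.card P = 2 ^ a) (hPK : P ≤ K) (hNK : N ≤ K)
    (hN : IsPGroup 2 N) (hnorm : ∀ k ∈ K, ∀ n ∈ N, k * n * k⁻¹ ∈ N) : N ≤ P := by
  have hPn : P ≤ Subgroup.normalizer (N : Set X) := by
    intro k hk
    rw [Subgroup.mem_normalizer_iff]
    refine fun n => ⟨hnorm k (hPK hk) n, fun h => ?_⟩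
    have := hnorm k⁻¹ (K.inv_mem (hPK hk)) _ h
    rwa [inv_inv, show k⁻¹ * (k * n * k⁻¹) * k = n by group] at this
  have hS : IsPGroup 2 ↥(P ⊔ N) := (IsPGroup.of_card hP).to_sup_of_normal_right' hN hPn
  obtain ⟨b, hb⟩ := IsPGroup.iff_card.1 hS
  have hd : 2 ^ b ∣ 2 ^ a * m := hb ▸ hK ▸ Subgroup.card_dvd_of_le (sup_le hPK hNK)
  have hco : Nat.Coprime (2 ^ b) m := Nat.Coprime.pow_left b hm.coprime_two_left
  have hba : 2 ^ b ≤ 2 ^ a := Nat.le_of_dvd (by positivity) (hco.dvd_of_dvd_mul_right hd)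
  have heq := Subgroup.eq_of_le_of_card_ge (le_sup_left : P ≤ P ⊔ N) (by rw [hb, hP]; exact hba)
  exact heq ▸ le_sup_right

theorem dec_v3 : dec v3 = rep 3 := by rw [← rep_ok.2.1, dec_code]

theorem dec_v2 : dec v2 = rep 2 := by rw [← rep_ok.1, dec_code]

theorem lab_rep : lab (rep 2) = 2 ∧ lab (rep 3) = 3 := by decide +kernel

theorem fix_word {g : ℕ} {l : List (Fin 10)} (h : kw KT l = g) {v : ℕ} (hv : v < 4096)
    (hfix : appN g v = v) : wordP l (dec v) = dec v := by
  rw [← dec_code (wordP l (dec v)), ← appN_key (isUni_K0 (wordP_mem l)), code_dec hv,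
    key_wordP KT_ok, h, hfix]

theorem word_inv {g gi : ℕ} {l li : List (Fin 10)} (h : kw KT l = g) (hi : kw KT li = gi)
    (e : kmul gi g = one) : wordP li = (wordP l)⁻¹ :=
  eq_inv_of_mul_eq_one_left ((key_eq_one (mul_mem (wordP_mem li) (wordP_mem l))).1 (by
    rw [key_K0_mul (wordP_mem li), key_wordP KT_ok, key_wordP KT_ok, h, hi, e]))

/-- A normal 2-subgroup of the stabiliser of the second marked vector is in `NN`. -/
theorem le_NN_of_normal (hK : Nat.card K0 = 9797760) {N : Subgroup (Equiv.Perm W)}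
    (hNK : N ≤ K0stab (rep 3)) (hN : IsPGroup 2 N)
    (hnorm : ∀ k ∈ K0stab (rep 3), ∀ n ∈ N, k * n * k⁻¹ ∈ N) : N ≤ NN := by
  have hle : N ≤ PP := normal_le_sylow (a := 7) (m := 45) (by decide)
    (by rw [card_K0stab hK _ (by rw [lab_rep.2]; norm_num), lab_rep.2]; norm_num)
    (by rw [card_PP]; norm_num) (fun x hx => mem_K0stab.2 ⟨PP_le hx, by
      have := PP_fix hx; rwa [dec_v3] at this⟩) hNK hN hnorm
  intro n hn
  obtain ⟨hw, hwi, hone, hfix⟩ := g3_ok
  have hg : wordP g3w ∈ K0stab (rep 3) := mem_K0stab.2 ⟨wordP_mem _, by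
    have := fix_word hw (v := v3) (by decide) hfix; rwa [dec_v3] at this⟩
  have hinv : wordP g3iw = (wordP g3w)⁻¹ := word_inv hw hwi hone
  have hn' : wordP g3iw * n * wordP g3w ∈ PP := by
    have := hle (hnorm _ (inv_mem hg) n hn)
    rwa [inv_inv, ← hinv] at this
  have hk := key_PP hn'
  rw [key_K0_mul (mul_mem (wordP_mem _) (hNK hn).1), key_K0_mul (wordP_mem _), key_wordP KT_ok,
    key_wordP KT_ok, hw, hwi] at hk
  exact ⟨(hNK hn).1, inter_P _ (key_PP (hle hn)) hk⟩

/-- The stabiliser of the first marked vector has no normal 2-subgroup. -/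
theorem eq_bot_of_normal (hK : Nat.card K0 = 9797760) {N : Subgroup (Equiv.Perm W)}
    (hNK : N ≤ K0stab (rep 2)) (hN : IsPGroup 2 N)
    (hnorm : ∀ k ∈ K0stab (rep 2), ∀ n ∈ N, k * n * k⁻¹ ∈ N) : N = ⊥ := by
  have hle : N ≤ RR := normal_le_sylow (a := 6) (m := 405) (by decide)
    (by rw [card_K0stab hK _ (by rw [lab_rep.1]), lab_rep.1]; norm_num)
    (by rw [card_RR]; norm_num) (fun x hx => mem_K0stab.2 ⟨RR_le hx, by
      have := RR_fix hx; rwa [dec_v2] at this⟩) hNK hN hnorm
  rw [Subgroup.eq_bot_iff_forall]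
  intro n hn
  obtain ⟨hw, hwi, hone, hfix⟩ := g2_ok
  have hg : wordP g2w ∈ K0stab (rep 2) := mem_K0stab.2 ⟨wordP_mem _, by
    have := fix_word hw (v := v2) (by decide) hfix; rwa [dec_v2] at this⟩
  have hinv : wordP g2iw = (wordP g2w)⁻¹ := word_inv hw hwi hone
  have hn' : wordP g2iw * n * wordP g2w ∈ RR := by
    have := hle (hnorm _ (inv_mem hg) n hn)
    rwa [inv_inv, ← hinv] at this
  have hk := key_RR hn'
  rw [key_K0_mul (mul_mem (wordP_mem _) (hNK hn).1), key_K0_mul (wordP_mem _), key_wordP KT_ok,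
    key_wordP KT_ok, hw, hwi] at hk
  exact (key_eq_one (hNK hn).1).1 (inter_R _ (key_RR (hle hn)) hk)

/-- A map of the class-preserving kind commuting with `NN` and fixing the marked vector is in `K0`. -/
theorem mem_K0_of_commute_NN {e : Equiv.Perm W} (he : IsUni e) (hfix : e (rep 3) = rep 3)
    (hlab : ∀ v, lab (e v) = lab v) (hcomm : ∀ n ∈ NN, e * n = n * e) : e ∈ K0 := by
  have hkey := key_centraliser he (fun K hK x => by
    obtain ⟨n, hn, -, rfl⟩ := exists_four certN hK
    have hc := congrArg (fun p : Equiv.Perm W => p x) (hcomm n hn)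
    simp only [Equiv.Perm.mul_apply] at hc
    rw [dec_appN_key (isUni_K0 hn.1), dec_appN_key (isUni_K0 hn.1), hc])
  have hu : code (e (dec w0)) < 4096 := code_lt _
  have h := centraliser_ok ⟨_, hu⟩ (by
    rw [← hkey, ← rep_ok.2.1, appN_key he, hfix])
  rw [← hkey] at h
  rcases h with ⟨w, hw, hne⟩ | h
  · exfalso
    refine hne ?_
    have hwlt : w < 4096 := (show ∀ w ∈ wit, w < 4096 by decide) w hw
    conv_lhs => rw [← code_dec hwlt, appN_key he, dec_code, hlab]
  · obtain ⟨n, hn, -, hkn⟩ := exists_four certN h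
    rw [key_inj he (isUni_K0 hn.1) hkn.symm]
    exact hn.1

/-- Every 2-subgroup of `K0` is conjugate into `PP`. -/
theorem exists_conj_PP (hK : Nat.card K0 = 9797760) {B : Subgroup (Equiv.Perm W)} (hB : B ≤ K0)
    (h2 : IsPGroup 2 B) : ∃ k ∈ K0, ∀ b ∈ B, k * b * k⁻¹ ∈ PP := by
  have := Fact.mk Nat.prime_two
  have hP2 : IsPGroup 2 ↥(PP.subgroupOf K0) :=
    (IsPGroup.of_card (n := 7) (show Nat.card PP = 2 ^ 7 by rw [card_PP]; norm_num)).comap_subtype
  obtain ⟨S, hS⟩ := hP2.exists_le_sylow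
  obtain ⟨T, hT⟩ := (h2.comap_subtype (K := K0)).exists_le_sylow
  obtain ⟨k, hk⟩ := MulAction.exists_smul_eq K0 T S
  have hcS : Nat.card S = 128 := by
    rw [Sylow.card_eq_multiplicity, factorization_K0 hK, Nat.factorization_mul (by norm_num) (by norm_num)]
    rw [Finsupp.add_apply, Nat.Prime.factorization_pow Nat.prime_two,
      Nat.factorization_eq_zero_of_not_dvd (show ¬ 2 ∣ 76545 by norm_num)]
    simp
  have heq : PP.subgroupOf K0 = (S : Subgroup K0) := Subgroup.eq_of_le_of_card_ge hS (by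
    rw [hcS, Nat.card_congr (Subgroup.subgroupOfEquivOfLe PP_le).toEquiv, card_PP])
  refine ⟨k, k.2, fun b hb => ?_⟩
  have : k * ⟨b, hB hb⟩ * k⁻¹ ∈ (S : Subgroup K0) := by
    rw [← hk, Sylow.coe_subgroup_smul]
    refine Subgroup.mem_smul_pointwise_iff_exists _ _ _ |>.2 ⟨⟨b, hB hb⟩, hT hb, ?_⟩
    rfl
  rw [← heq] at this
  exact this

end H59.Fi24
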