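import Cfsg.Agent.H59.Fischer.Elem

/-!
An elementary abelian subgroup of the centraliser of order at least `2^11` is a conjugate of the
subgroup of lifts.
-/

set_option autoImplicit false
set_option maxRecDepth 100000

namespace H59.Fi24

open H16.Fi24

universe u

variable {G : Type u} [Group G] [Finite G] {z : G}
  {Q : Subgroup (Subgroup.centralizer ({z} : Set G))}

/-- The order splits along the representation. -/
theorem card_split (D : Model z Q) (B : Subgroup (Subgroup.centralizer ({z} : Set G))) :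
    Nat.card B = Nat.card ↥(B ⊓ Q) * Nat.card ↥(B.map D.ρ) := by
  let f : B →* Equiv.Perm W := D.ρ.comp B.subtype
  have hker : f.ker.map B.subtype = B ⊓ Q := by
    refine le_antisymm ?_ ?_
    · rintro r ⟨r', hr, rfl⟩
      exact ⟨r'.2, mem_Q_of_rho D hr⟩
    · intro r hr
      exact ⟨⟨r, hr.1⟩, rho_Q D hr.2, rfl⟩
  have hrange : f.range = B.map D.ρ := by
    rw [MonoidHom.range_comp, Subgroup.range_subtype]
  rw [← f.ker.card_mul_index, Subgroup.index_ker, hrange, ← Subgroup.card_subtype B f.ker, hker]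

/-- The image of a subgroup of the normal subgroup. -/
def imQ (D : Model z Q) (B : Subgroup (Subgroup.centralizer ({z} : Set G))) : AddSubgroup W where
  carrier := {v | ∃ q ∈ B ⊓ Q, D.Φ q = v}
  zero_mem' := ⟨1, one_mem _, phi_one D⟩
  add_mem' := by
    rintro a b ⟨q, hq, rfl⟩ ⟨r, hr, rfl⟩
    exact ⟨q * r, mul_mem hq hr, D.map_mul q hq.2 r hr.2⟩
  neg_mem' := by
    rintro a ⟨q, hq, rfl⟩
    exact ⟨q, hq, (ZModModule.neg_eq_self _).symm⟩

theorem mem_imQ (D : Model z Q) {B : Subgroup (Subgroup.centralizer ({z} : Set G))} {v : W} :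
    v ∈ imQ D B ↔ ∃ q ∈ B ⊓ Q, D.Φ q = v := Iff.rfl

theorem card_inf_le (D : Model z Q) (B : Subgroup (Subgroup.centralizer ({z} : Set G))) :
    Nat.card ↥(B ⊓ Q) ≤ 2 * Nat.card ↥(imQ D B) := by
  classical
  let r : imQ D B → ↥(B ⊓ Q) := fun t =>
    ⟨((mem_imQ D).1 t.2).choose, ((mem_imQ D).1 t.2).choose_spec.1⟩
  let p : ↥(B ⊓ Q) → imQ D B := fun q => ⟨D.Φ q.1, q.1, q.2, rfl⟩
  have hr : ∀ t, p (r t) = t := fun t => Subtype.ext ((mem_imQ D).1 t.2).choose_spec.2
  have h := Nat.card_le_card_of_injective (fun q : ↥(B ⊓ Q) => (p q, decide (q = r (p q)))) (by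
    intro a b e
    simp only [Prod.mk.injEq] at e
    obtain ⟨e1, e2⟩ := e
    rw [decide_eq_decide] at e2
    by_cases ha : a = r (p a)
    · rw [ha, e2.1 ha, ← e1]
    · have hb : ¬ b = r (p b) := fun h => ha (e2.2 h)
      have key : ∀ c : ↥(B ⊓ Q), ¬ c = r (p c) → (c.1 : G) = ((r (p c)).1 : G) * z := fun c hc =>
        (D.eq_or_mul c.2.2 (r (p c)).2.2 (congrArg Subtype.val (hr (p c))).symm).resolve_left
          fun h => hc (Subtype.ext (Subtype.ext h))
      refine Subtype.ext (Subtype.ext ?_)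
      rw [key a ha, key b hb, e1])
  rw [Nat.card_prod, show Nat.card Bool = 2 by simp] at h
  omega

theorem singular_imQ (D : Model z Q) {B : Subgroup (Subgroup.centralizer ({z} : Set G))}
    (hsq : ∀ b ∈ B, b * b = 1) {t : W} (ht : t ∈ imQ D B) : qf t = 0 := by
  obtain ⟨q, hq, rfl⟩ := ht
  exact (D.sq q hq.2).1 (hsq q hq.1)

theorem fix_imQ (D : Model z Q) {B : Subgroup (Subgroup.centralizer ({z} : Set G))}
    (hcomm : ∀ a ∈ B, ∀ b ∈ B, a * b = b * a) {b : Subgroup.centralizer ({z} : Set G)} (hb : b ∈ B)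
    {t : W} (ht : t ∈ imQ D B) : D.ρ b t = t := by
  obtain ⟨q, hq, rfl⟩ := ht
  rw [D.conj b q hq.2, hcomm b hb q hq.1, mul_inv_cancel_right]

theorem isPGroup_of_sq {X : Type*} [Group X] {B : Subgroup X} (hsq : ∀ b ∈ B, b * b = 1) :
    IsPGroup 2 B :=
  fun x => ⟨1, Subtype.ext (by rw [pow_one, pow_two]; exact hsq x.1 x.2)⟩

theorem wW0 : wW (0 : W) = 0 := by decide +kernel

theorem card_W : Nat.card W = 2 ^ 12 := by simp [Nat.card_eq_fintype_card]

theorem card_four_list : ([0, v3, wc v3, wc (wc v3)].toFinset).card ≤ 4 := by decide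

theorem card_le_of_fix_NN {α : Type*} [Finite α] {f : α → W} (hf : Function.Injective f)
    (h : ∀ x, ∀ a ∈ NN, a (f x) = f x) : Nat.card α ≤ 4 := by
  have h1 := Nat.card_le_card_of_injective
    (fun x : α => (⟨code (f x), List.mem_toFinset.2 (fix_NN (h x))⟩ :
      ↥([0, v3, wc v3, wc (wc v3)].toFinset)))
    (fun a b e => hf (by rw [← dec_code (f a), show code (f a) = code (f b) from congrArg Subtype.val e, dec_code]))
  rw [Nat.card_eq_finsetCard] at h1
  exact h1.trans card_four_list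

theorem card_le_of_fix_AA {α : Type*} [Finite α] {f : α → W} (hf : Function.Injective f)
    (h : ∀ x, ∀ a ∈ AA, a (f x) = f x) : Nat.card α ≤ 64 := by
  classical
  have h1 := Nat.card_le_card_of_injective
    (fun x : α => (⟨f x, Finset.mem_filter.2 ⟨Finset.mem_univ _, mem_U_of_fix (h x)⟩⟩ :
      ↥(Finset.univ.filter fun v : W => inU v))) (fun a b e => hf (congrArg Subtype.val e))
  rw [Nat.card_eq_finsetCard, card_U] at h1
  exact h1

/-- Conjugating a group of maps into the fixed group. -/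
theorem fix_conj {k : Equiv.Perm W} {E A : Subgroup (Equiv.Perm W)}
    (hE : E.map (MulAut.conj k).toMonoidHom = A) {v : W} (hv : ∀ e ∈ E, e v = v) :
    ∀ a ∈ A, a (k v) = k v := by
  rintro a ha
  rw [← hE] at ha
  obtain ⟨e, he, rfl⟩ := ha
  simp [hv e he]

/-- An elementary abelian subgroup of order at least 16 of the matrix group is conjugate to one of
the two. -/
theorem conj_eq_AA_or_NN (hK : Nat.card K0 = 9797760) {E : Subgroup (Equiv.Perm W)} (hE : E ≤ K0)
    (hc : ∀ a ∈ E, ∀ b ∈ E, a * b = b * a) (hsq : ∀ a ∈ E, a * a = 1) (hcard : 16 ≤ Nat.card E) :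
    ∃ k ∈ K0, E.map (MulAut.conj k).toMonoidHom = AA ∨ E.map (MulAut.conj k).toMonoidHom = NN := by
  obtain ⟨k, hk, hkP⟩ := exists_conj_PP hK hE (isPGroup_of_sq hsq)
  refine ⟨k, hk, eq_AA_or_NN ?_ ?_ ?_ ?_⟩
  · rintro _ ⟨e, he, rfl⟩
    exact hkP e he
  · rintro _ ⟨a, ha, rfl⟩ _ ⟨b, hb, rfl⟩
    rw [← _root_.map_mul, ← _root_.map_mul, hc a ha b hb]
  · rintro _ ⟨a, ha, rfl⟩
    rw [← _root_.map_mul, hsq a ha, _root_.map_one]
  · rwa [Subgroup.card_map_of_injective (MulAut.conj k).injective]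

variable [Q.Normal]

/-- A large elementary abelian subgroup lies in the index two subgroup. -/
theorem le_M_of_large (hF : Cfsg.IsOfLargeFischerTypeAt z Q) (D : Model z Q)
    {B : Subgroup (Subgroup.centralizer ({z} : Set G))} (hsq : ∀ b ∈ B, b * b = 1)
    (hcomm : ∀ a ∈ B, ∀ b ∈ B, a * b = b * a) (hcard : 2048 ≤ Nat.card B) : B ≤ D.M := by
  classical
  by_contra hno
  obtain ⟨e, he, heM⟩ := SetLike.not_le_iff_exists.1 hno
  set B0 := B ⊓ D.M with hB0
  have hhalf : Nat.card B ≤ Nat.card B0 * 2 := by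
    have h := Nat.card_le_card_of_injective
      (fun x : B => if hx : x.1 ∈ D.M then ((⟨x.1, x.2, hx⟩ : B0), true)
        else ((⟨e * x.1, mul_mem he x.2,
          (Subgroup.mul_mem_iff_of_index_two D.index_M).2 (iff_of_false heM hx)⟩ : B0), false)) (by
        intro x y h
        dsimp only at h
        split_ifs at h <;>
          simp only [Prod.mk.injEq, Subtype.mk.injEq, Bool.false_eq_true, Bool.true_eq_false, and_false,
            and_true, mul_right_inj] at h
        all_goals first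
          | exact Subtype.ext h
          | exact Subtype.ext (congrArg (fun t : B0 => (t : Subgroup.centralizer ({z} : Set G))) h)
          | exact Subtype.ext (mul_left_cancel (congrArg (fun t : B0 => (t : Subgroup.centralizer ({z} : Set G))) h)))
    rwa [Nat.card_prod, show Nat.card Bool = 2 by simp] at h
  have hQ : B0 ⊓ Q = B ⊓ Q := le_antisymm (inf_le_inf_right _ inf_le_left)
    (fun x hx => ⟨⟨hx.1, D.Q_le hx.2⟩, hx.2⟩)
  set E := B0.map D.ρ with hE
  have hsplit := card_split D B0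
  rw [hQ, ← hE] at hsplit
  set T := imQ D B with hT
  have hle := card_inf_le D B
  rw [← hT] at hle
  have hT64 : Nat.card T ≤ 64 := card_totSing T fun t ht => singular_imQ D hsq ht
  have hBQ : Nat.card ↥(B ⊓ Q) * Nat.card E ≤ 2 * Nat.card T * Nat.card E :=
    Nat.mul_le_mul_right _ hle
  have hFix : ∀ a ∈ E, ∀ st : T × T, a (st.1.1 + wW st.2.1) = st.1.1 + wW st.2.1 := by
    rintro a ⟨b, hb, rfl⟩ st
    rw [D.rho_add, fix_imQ D hcomm hb.1 st.1.2, (isUni_K0 (D.rho_mem b hb.2)).wcomm,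
      fix_imQ D hcomm hb.1 st.2.2]
  have hinj : Function.Injective fun st : T × T => st.1.1 + wW st.2.1 := by
    intro a b h
    dsimp only at h
    have hw : wW (b.2.1 - a.2.1) = wW b.2.1 + wW a.2.1 := by
      rw [ZModModule.sub_eq_add]; exact funext fun i => mu_add _ _ _
    have hd : a.1.1 - b.1.1 = wW (b.2.1 - a.2.1) := by
      rw [hw, ZModModule.sub_eq_add]
      have := congrArg (fun v => v + (b.1.1 + wW a.2.1)) h
      calc a.1.1 + b.1.1 = a.1.1 + wW a.2.1 + (b.1.1 + wW a.2.1) := by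
            rw [add_add_add_comm, ZModModule.add_self, add_zero]
        _ = b.1.1 + wW b.2.1 + (b.1.1 + wW a.2.1) := this
        _ = wW b.2.1 + wW a.2.1 := by
            rw [add_add_add_comm, ZModModule.add_self, zero_add]
    have hdT : b.2.1 - a.2.1 ∈ T := T.sub_mem b.2.2 a.2.2
    have hfixd : D.ρ e (a.1.1 - b.1.1) = a.1.1 - b.1.1 := fix_imQ D hcomm he (T.sub_mem a.1.2 b.1.2)
    rw [hd, anti hF D heM, fix_imQ D hcomm he hdT] at hfixd
    have hzero : b.2.1 - a.2.1 = 0 := by
      have := wW_sum (b.2.1 - a.2.1)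
      rw [hfixd] at this
      exact add_eq_left.1 this
    rw [hzero] at hd
    rw [show wW (0 : W) = 0 from wW0, sub_eq_zero] at hd
    rw [sub_eq_zero] at hzero
    exact Prod.ext (Subtype.ext hd) (Subtype.ext hzero.symm)
  have hTT : Nat.card (T × T) = Nat.card T * Nat.card T := Nat.card_prod _ _
  have hEsq : ∀ a ∈ E, a * a = 1 := by
    rintro a ⟨b, hb, rfl⟩
    rw [← _root_.map_mul, hsq b hb.1, _root_.map_one]
  have hE16 : 16 ≤ Nat.card E := by
    by_contra hlt
    have h32 : 32 < Nat.card T := by nlinarith [Nat.zero_le (Nat.card T), Nat.zero_le (Nat.card E)]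
    have hdvd : Nat.card T ∣ 2 ^ 12 := by
      have := T.card_addSubgroup_dvd_card
      rwa [show Nat.card W = 2 ^ 12 from card_W] at this
    obtain ⟨j, hj, hTj⟩ := (Nat.dvd_prime_pow Nat.prime_two).1 hdvd
    have hT' : Nat.card T = 64 := by
      rw [hTj] at h32 hT64 ⊢
      have h5 : 5 < j := (Nat.pow_lt_pow_iff_right (le_refl 2)).1 (show 2 ^ 5 < 2 ^ j from h32)
      have h6 : j ≤ 6 := (Nat.pow_le_pow_iff_right (le_refl 2)).1 (show 2 ^ j ≤ 2 ^ 6 from hT64)
      rw [show j = 6 by omega]; norm_num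
    have hbij : Function.Bijective fun st : T × T => st.1.1 + wW st.2.1 :=
      (Nat.bijective_iff_injective_and_card _).2 ⟨hinj, by rw [hTT, hT', show Nat.card W = 2 ^ 12 from card_W]; norm_num⟩
    have hbot : E = ⊥ := by
      rw [Subgroup.eq_bot_iff_forall]
      intro a ha
      refine Equiv.ext fun v => ?_
      obtain ⟨st, rfl⟩ := hbij.2 v
      exact hFix a ha st
    rw [hbot, Subgroup.card_bot] at hsplit
    omega
  obtain ⟨k, hk, hcase⟩ := conj_eq_AA_or_NN D.card_K0 (E := E)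
    (by rintro a ⟨b, hb, rfl⟩; exact D.rho_mem b hb.2)
    (by rintro a ⟨a', ha', rfl⟩ b ⟨b', hb', rfl⟩
        rw [← _root_.map_mul, ← _root_.map_mul, hcomm a' ha'.1 b' hb'.1]) hEsq hE16
  have hTT64 : Nat.card (T × T) ≤ 64 := by
    rcases hcase with h | h
    · exact card_le_of_fix_AA (f := fun st : T × T => k (st.1.1 + wW st.2.1))
        (k.injective.comp hinj) fun st => fix_conj h fun a ha => hFix a ha st
    · exact (card_le_of_fix_NN (f := fun st : T × T => k (st.1.1 + wW st.2.1))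
        (k.injective.comp hinj) fun st => fix_conj h fun a ha => hFix a ha st).trans (by norm_num)
  have hE16' : Nat.card E ≤ 16 := by
    have := Subgroup.card_map_of_injective (K := E) (f := (MulAut.conj k).toMonoidHom) (MulAut.conj k).injective
    rw [← this]
    rcases hcase with h | h
    · exact (congrArg (fun S : Subgroup (Equiv.Perm W) => Nat.card S) h).le.trans card_AA.le
    · exact (congrArg (fun S : Subgroup (Equiv.Perm W) => Nat.card S) h).le.trans card_NN.le
  rw [hTT] at hTT64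
  have hT8 : Nat.card T ≤ 8 := by nlinarith
  nlinarith

/-- The main statement on large elementary abelian subgroups. -/
theorem conj_eq_CC (hF : Cfsg.IsOfLargeFischerTypeAt z Q) (D : Model z Q)
    {B : Subgroup (Subgroup.centralizer ({z} : Set G))} (hsq : ∀ b ∈ B, b * b = 1)
    (hcomm : ∀ a ∈ B, ∀ b ∈ B, a * b = b * a) (hcard : 2048 ≤ Nat.card B)
    {m : Subgroup.centralizer ({z} : Set G)} (hm : ∀ b ∈ B, D.ρ m * D.ρ b * (D.ρ m)⁻¹ ∈ PP) :
    B.map (MulAut.conj m).toMonoidHom = CC D ∧ Nat.card B = 2048 := by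
  classical
  have hz := hF.1.1
  set B' := B.map (MulAut.conj m).toMonoidHom with hB'
  have hc' : Nat.card B' = Nat.card B := Subgroup.card_map_of_injective (MulAut.conj m).injective
  have hsq' : ∀ b ∈ B', b * b = 1 := by
    rintro _ ⟨b, hb, rfl⟩
    rw [← _root_.map_mul, hsq b hb, _root_.map_one]
  have hcomm' : ∀ a ∈ B', ∀ b ∈ B', a * b = b * a := by
    rintro _ ⟨a, ha, rfl⟩ _ ⟨b, hb, rfl⟩
    rw [← _root_.map_mul, ← _root_.map_mul, hcomm a ha b hb]
  set E := B'.map D.ρ with hE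
  have hEP : E ≤ PP := by
    rintro _ ⟨_, ⟨b, hb, rfl⟩, rfl⟩
    simpa using hm b hb
  have hsplit := card_split D B'
  rw [← hE] at hsplit
  set T := imQ D B' with hT
  have hle := card_inf_le D B'
  rw [← hT] at hle
  have hT64 : Nat.card T ≤ 64 := card_totSing T fun t ht => singular_imQ D hsq' ht
  have hE16 : 16 ≤ Nat.card E := by nlinarith
  have hfixT : ∀ t : T, ∀ a ∈ E, a t.1 = t.1 := by
    rintro t a ⟨b, hb, rfl⟩
    exact fix_imQ D hcomm' hb t.2
  rcases eq_AA_or_NN hEP (by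
      rintro a ⟨a', ha', rfl⟩ b ⟨b', hb', rfl⟩
      rw [← _root_.map_mul, ← _root_.map_mul, hcomm' a' ha' b' hb'])
    (by rintro a ⟨b, hb, rfl⟩; rw [← _root_.map_mul, hsq' b hb, _root_.map_one]) hE16 with h | h
  swap
  · have h4 : Nat.card T ≤ 4 := card_le_of_fix_NN Subtype.val_injective fun t a ha => hfixT t a (h.symm ▸ ha)
    have hEc : Nat.card E = 16 := h.symm ▸ card_NN
    rw [hEc] at hsplit
    omega
  have hEc : Nat.card E = 16 := h.symm ▸ card_AA
  rw [hEc] at hsplit
  have hWle : B' ⊓ Q ≤ Wt D := fun q hq => ⟨hq.2, mem_U_of_fix fun a ha =>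
    hfixT ⟨_, q, hq, rfl⟩ a (h.symm ▸ ha)⟩
  have hW : B' ⊓ Q = Wt D := Subgroup.eq_of_le_of_card_ge hWle (by rw [card_Wt D hz]; omega)
  have hle' : B' ≤ CC D := fun b hb => (mem_CC D).2 ⟨h ▸ Subgroup.mem_map_of_mem _ hb,
    fun w hw => hcomm' b hb w (hW.ge hw).1⟩
  have heq : B' = CC D := Subgroup.eq_of_le_of_card_ge hle' (by rw [card_CC D hz]; omega)
  exact ⟨heq, by rw [← hc', heq, card_CC D hz]⟩

end H59.Fi24
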