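import Cfsg.Agent.H59.Fischer.Final

/-!
A divisor of the order of the normalizer of the subgroup of lifts in the centraliser.
-/

set_option autoImplicit false
set_option maxRecDepth 100000

namespace H59.Fi24

open H16.Fi24

universe u

/-- The normalizer of the group of order sixteen in the matrix group. -/
def NA : Subgroup (Equiv.Perm W) := K0 ⊓ Subgroup.normalizer (AA : Set (Equiv.Perm W))

theorem mem_NA_of_conj {g : Equiv.Perm W} (hg : g ∈ K0) (h : ∀ a ∈ AA, g * a * g⁻¹ ∈ AA) : g ∈ NA := by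
  refine ⟨hg, Subgroup.mem_normalizer_iff_map_conj_eq.2 (Subgroup.eq_of_le_of_card_ge ?_ ?_)⟩
  · rintro _ ⟨a, ha, rfl⟩
    exact h a ha
  · exact (Nat.card_congr (Subgroup.equivMapOfInjective _ _ (MulAut.conj g).injective).toEquiv).le

theorem fifteen_dvd_NA : 15 ∣ Nat.card NA := by
  obtain ⟨a1, ha1, -, hka1⟩ := exists_four certA (k := LA.getD 1 0) (getD_mem (by decide))
  have hone : ∀ {p : Equiv.Perm W}, p ∈ AA → (key p = one ↔ p = 1) := fun hp => key_eq_one hp.1
  have ha11 : a1 ≠ 1 := fun e => by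
    have := (hone ha1).2 e
    rw [hka1] at this
    exact absurd this (by decide)
  have horb : (fun g => g * a1 * g⁻¹) '' (NA : Set (Equiv.Perm W)) = (AA : Set (Equiv.Perm W)) \ {1} := by
    refine Set.Subset.antisymm ?_ ?_
    · rintro _ ⟨g, hg, rfl⟩
      exact ⟨(Subgroup.mem_normalizer_iff.1 hg.2 a1).1 ha1, fun e => ha11 (conj_eq_one_iff.1 e)⟩
    · rintro p ⟨hp, hp1⟩
      suffices htrans : ∀ a, 1 ≤ a → a < 16 → ∀ p ∈ AA, key p = LA.getD a 0 →
          ∃ g ∈ NA, g * a1 * g⁻¹ = p by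
        rcases LA_index _ hp.2 with h | ⟨a, ha, ha0, e⟩
        · exact absurd ((hone hp).1 h) hp1
        · exact htrans a ha0 ha p hp e.symm
      intro a
      induction hd : (ntree.getD a (0, 0, 0)).2.2 using Nat.strong_induction_on generalizing a with
      | _ d ih =>
        intro h1 h16 p hp hk
        rcases ntree_ok a h16 with h | ⟨hi, hp16, hp0, hdep, hperm⟩
        · obtain rfl : a = 1 := le_antisymm h h1
          exact ⟨1, one_mem _, by rw [one_mul, inv_one, mul_one, key_K0_inj hp.1 ha1.1 (hk.trans hka1.symm)]⟩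
        · obtain ⟨q, hq, -, hkq⟩ := exists_four certA
            (k := LA.getD (ntree.getD a (0, 0, 0)).2.1 0) (getD_mem (show _ < LA.length from hp16))
          obtain ⟨g, hg, e'⟩ := ih _ (hd ▸ hdep) _ rfl hp0 hp16 q hq hkq
          obtain ⟨p', hp', hkp', e⟩ := nw_norm hi hp16 hq hkq
          rw [hperm] at hkp'
          refine ⟨wordP (nw.getD (ntree.getD a (0, 0, 0)).1 []) * g,
            mul_mem (mem_NA_of_conj (wordP_mem _) fun b hb => nw_norm_all hi hb) hg, ?_⟩
          rw [key_K0_inj hp.1 hp'.1 (hk.trans hkp'.symm), ← e, ← e']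
          group
  have h := H33.FiLocal.card_eq_orbit_mul (M := NA) a1
  rw [horb, Set.ncard_sdiff_singleton_of_mem (one_mem AA),
    show (AA : Set (Equiv.Perm W)).ncard = 16 from (Nat.card_coe_set_eq _).symm.trans card_AA] at h
  exact ⟨_, h⟩

variable {G : Type u} [Group G] [Finite G] {z : G}
  {Q : Subgroup (Subgroup.centralizer ({z} : Set G))} [Q.Normal]

theorem mem_normalizer_CC (D : Model z Q) {h : Subgroup.centralizer ({z} : Set G)} (hh : D.ρ h ∈ NA) :
    h ∈ Subgroup.normalizer (CC D : Set (Subgroup.centralizer ({z} : Set G))) := by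
  have key : ∀ g, D.ρ g ∈ NA → ∀ c ∈ CC D, g * c * g⁻¹ ∈ CC D := by
    intro g hg c hc
    refine conj_CC D (fun v hv => ?_) (fun a ha => (Subgroup.mem_normalizer_iff.1 hg.2 a).1 ha) hc
    rw [map_inv]
    exact norm_U (fun a ha => (Subgroup.mem_normalizer_iff.1 hg.2 a).1 ha) hv
  refine Subgroup.mem_normalizer_iff.2 fun c => ⟨key h hh c, fun hc => ?_⟩
  have := key h⁻¹ (by rw [map_inv]; exact inv_mem hh) _ hc
  rwa [inv_inv, show h⁻¹ * (h * c * h⁻¹) * h = c by group] at this

theorem card_cent (D : Model z Q) (hQ : Nat.card Q = 2 ^ 13) :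
    Nat.card (Subgroup.centralizer ({z} : Set G)) = 2 ^ 21 * 76545 := by
  have h := card_split D D.M
  rw [D.map_M, D.card_K0, inf_eq_right.2 D.Q_le, hQ] at h
  rw [← D.M.card_mul_index, D.index_M, h]
  norm_num

/-- The order of the normalizer in the centraliser is divisible by `2^20 * 15`. -/
theorem dvd_normalizer (hF : Cfsg.IsOfLargeFischerTypeAt z Q) (D : Model z Q) :
    2 ^ 20 * 15 ∣ Nat.card ↥(Subgroup.normalizer (AG D : Set G) ⊓ Subgroup.centralizer ({z} : Set G)) := by
  have := Fact.mk Nat.prime_two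
  have hz := hF.1.1
  set N := Subgroup.normalizer (CC D : Set (Subgroup.centralizer ({z} : Set G))) with hN
  have h15 : 15 ∣ Nat.card N := by
    refine fifteen_dvd_NA.trans ((Subgroup.card_dvd_of_le (K := N.map D.ρ) ?_).trans (N.card_map_dvd D.ρ))
    intro g hg
    obtain ⟨h, -, rfl⟩ := D.exists_rho hg.1
    exact ⟨h, mem_normalizer_CC D hg, rfl⟩
  have h2 : 2 ^ 20 ∣ Nat.card N := by
    have hp : IsPGroup 2 ↥(CC D) := IsPGroup.of_card (n := 11) (by rw [card_CC D hz]; norm_num)
    obtain ⟨P, hP⟩ := hp.exists_le_sylow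
    have hPN : (P : Subgroup (Subgroup.centralizer ({z} : Set G))) ≤ N := by
      obtain ⟨B, -, -, -, -, -, -, -, huniq⟩ := sylow_max hF D P
      have hCB := huniq (CC D) hP (ea_iff.2 (elem_CC D hz)) (card_CC D hz).ge
      intro g hg
      refine Subgroup.mem_normalizer_iff_map_conj_eq.2 ?_
      refine (huniq _ ?_ (H33.FiLocal.ea_map _ (ea_iff.2 (elem_CC D hz))) ?_).trans hCB.symm
      · rintro _ ⟨c, hc, rfl⟩
        simpa using mul_mem (mul_mem hg (hP hc)) (inv_mem hg)
      · exact (card_CC D hz).ge.trans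
          (Nat.card_congr (Subgroup.equivMapOfInjective _ _ (MulAut.conj g).injective).toEquiv).le
    refine (Dvd.dvd.trans ?_ (P.pow_dvd_card_of_pow_dvd_card (n := 20) ?_)).trans (Subgroup.card_dvd_of_le hPN)
    · exact dvd_rfl
    · rw [card_cent D hF.1.2.2.2.1]; norm_num
  have hle : N.map (Subgroup.centralizer ({z} : Set G)).subtype ≤
      Subgroup.normalizer (AG D : Set G) ⊓ Subgroup.centralizer ({z} : Set G) := by
    rintro _ ⟨n, hn, rfl⟩
    refine ⟨Subgroup.mem_normalizer_iff_map_conj_eq.2 ?_, n.2⟩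
    rw [AG, Subgroup.map_map]
    conv_rhs => rw [← Subgroup.mem_normalizer_iff_map_conj_eq.1 hn, Subgroup.map_map]
    rfl
  have hc := Subgroup.card_dvd_of_le hle
  rw [Subgroup.card_map_of_injective (f := (Subgroup.centralizer ({z} : Set G)).subtype)
    (Subgroup.subtype_injective _)] at hc
  exact (Nat.Coprime.mul_dvd_of_dvd_of_dvd (Nat.Coprime.pow_left 20 (by norm_num)) h2 h15).trans hc

end H59.Fi24
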