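import Cfsg.Agent.H59.Fischer.Check

/-!
Linearity of the packed operations, and the maps commuting with the normal four-generator group.
-/

set_option autoImplicit false
set_option maxRecDepth 100000

namespace H59.Fi24

open H16.Fi24

theorem col_xor (A B j : ℕ) : col (A ^^^ B) j = col A j ^^^ col B j := by
  simp only [col, Nat.shiftRight_xor_distrib]
  exact Nat.xor_mod_two_pow (n := 12)

theorem wc_xor {a b : ℕ} (ha : a < 4096) (hb : b < 4096) : wc (a ^^^ b) = wc a ^^^ wc b := by
  have hab : a ^^^ b < 2 ^ 12 := Nat.xor_lt_two_pow ha hb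
  have h1 : wc a ^^^ wc b < 2 ^ 12 := Nat.xor_lt_two_pow (dec_wc ha).2 (dec_wc hb).2
  rw [← code_dec (dec_wc hab).2, ← code_dec h1, (dec_wc hab).1, dec_xor, dec_xor, (dec_wc ha).1,
    (dec_wc hb).1]
  congr 1
  funext i
  exact mu_add _ _ _

theorem wc_zero : wc 0 = 0 := rfl

theorem sel_xor (A B c j : ℕ) : sel (A ^^^ B) c j = sel A c j ^^^ sel B c j := by
  simp only [sel, col_xor, wc_xor (col_lt A j) (col_lt B j)]
  cases c.testBit (2 * j) <;> cases c.testBit (2 * j + 1) <;>
    simp only [if_true, if_false, Bool.false_eq_true, Nat.zero_xor, Nat.xor_zero] <;>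
    ac_rfl

theorem appN_xor (A B c : ℕ) : appN (A ^^^ B) c = appN A c ^^^ appN B c := by
  simp only [appN, sel_xor]
  ac_rfl

theorem appN_zero (c : ℕ) : appN 0 c = 0 := by
  simp [appN, sel, col, wc_zero]

theorem col_wK (A : ℕ) {j : ℕ} (hj : j < 6) : col (wK A) j = wc (col A j) :=
  col_pack (fun i _ => (dec_wc (col_lt A i)).2) hj

theorem sel_wK (A c : ℕ) {j : ℕ} (hj : j < 6) : sel (wK A) c j = wc (sel A c j) := by
  have hw : wc (col A j) < 4096 := (dec_wc (col_lt A j)).2
  simp only [sel, col_wK A hj]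
  cases c.testBit (2 * j) <;> cases c.testBit (2 * j + 1) <;>
    simp only [if_true, if_false, Bool.false_eq_true, Nat.zero_xor, Nat.xor_zero, wc_zero,
      wc_xor (col_lt A j) hw]

theorem appN_wK (A c : ℕ) : appN (wK A) c = wc (appN A c) := by
  have x2 : ∀ a b : ℕ, a < 4096 → b < 4096 → a ^^^ b < 4096 := fun a b ha hb =>
    Nat.xor_lt_two_pow (n := 12) ha hb
  have h0 := sel_lt A c 0; have h1 := sel_lt A c 1; have h2 := sel_lt A c 2
  have h3 := sel_lt A c 3; have h4 := sel_lt A c 4; have h5 := sel_lt A c 5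
  have p1 := x2 _ _ h0 h1
  have p2 := x2 _ _ p1 h2
  have p3 := x2 _ _ p2 h3
  have p4 := x2 _ _ p3 h4
  simp only [appN, sel_wK A c (show 0 < 6 by norm_num), sel_wK A c (show 1 < 6 by norm_num),
    sel_wK A c (show 2 < 6 by norm_num), sel_wK A c (show 3 < 6 by norm_num),
    sel_wK A c (show 4 < 6 by norm_num), sel_wK A c (show 5 < 6 by norm_num)]
  rw [wc_xor p4 h5, wc_xor p3 h4, wc_xor p2 h3, wc_xor p1 h2, wc_xor h0 h1]

/-- An additive map commuting with scalars and with the sixteen maps, determined by one value. -/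
theorem key_centraliser {e : Equiv.Perm W} (he : IsUni e)
    (hcomm : ∀ K ∈ LN, ∀ x : W, dec (appN K (code (e x))) = e (dec (appN K (code x)))) :
    key e = Ku (code (e (dec w0))) := by
  set u := code (e (dec w0)) with hu
  have hw0 : code (dec w0) = w0 := code_dec (by decide)
  have he0 : e 0 = 0 := by
    have := he.add 0 0
    rw [add_zero] at this
    exact left_eq_add.mp this
  have horb : ∀ i < 32, dec (appN (orbK i) u) = e (dec (appN (orbK i) w0)) := by
    intro i hi
    have hmem : ∀ k < 16, LN.getD k 0 ∈ LN := fun k hk => by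
      rw [List.getD_eq_getElem _ _ (show k < LN.length from hk)]
      exact List.getElem_mem _
    unfold orbK
    split
    next hk => rw [hu, hcomm _ (hmem i hk), hw0]
    next hk =>
      rw [appN_wK, appN_wK, (dec_wc (appN_lt _ _)).1, (dec_wc (appN_lt _ _)).1, hu,
        hcomm _ (hmem _ (by omega)), hw0, he.wcomm]
  have hcomb : ∀ m n, n ≤ 32 → dec (appN (combK m n) u) = e (dec (appN (combK m n) w0)) := by
    intro m n
    induction n with
    | zero => intro _; simp only [combK, appN_zero, dec_zero, he0]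
    | succ n ih =>
      intro hn
      rw [combK, appN_xor, appN_xor, dec_xor, dec_xor, he.add, ih (by omega)]
      congr 1
      split
      · exact horb n (by omega)
      · simp only [appN_zero, dec_zero, he0]
  refine pack_congr fun j hj => ?_
  rw [dif_pos hj]
  have h := MK_ok ⟨j, hj⟩
  have hc := hcomb (mask.getD j 0) 32 le_rfl
  rw [h.1, h.2, dec_code] at hc
  rw [← hc, code_dec (appN_lt _ _)]

end H59.Fi24
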