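import Cfsg.Agent.H59.Fischer.NormDvd
import Cfsg.Agent.H38.FiM24.Glue

/-!
The quotient of the normalizer from a labelling of the second class.
-/

set_option autoImplicit false
set_option maxRecDepth 100000

namespace H59.Fi24

open H16.Fi24

universe u

variable {G : Type u} [Group G] [Finite G] {z : G}
  {Q : Subgroup (Subgroup.centralizer ({z} : Set G))} [Q.Normal]

/-- The Thompson subgroup and the quotient of its normalizer. -/
theorem thompson_quot (hF : Cfsg.IsOfLargeFischerTypeAt z Q) (D : Model z Q)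
    (P : H33.FiLocal.Parts (AG D) (Subgroup.normalizer (AG D : Set G)) z)
    {V α : Type*} [AddCommGroup V] [Fintype V] [DecidableEq V] [Fintype α] [DecidableEq α]
    (L : H73.FiM24.PairLabels V α) (φ : ↥(AG D) → V) (hφ : ∀ a b, φ (a * b) = φ a + φ b)
    (hbij : Function.Bijective φ)
    (hT : ∀ a : ↥(AG D), ((a : G) ≠ 1 ∧ ¬ IsConj z (a : G)) ↔ ∃ p q, p ≠ q ∧ φ a = L.t p q)
    (T : Sylow 2 G) (A M : Subgroup G) (hA : A = Cfsg.thompsonSubgroupOf 2 (T : Subgroup G))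
    (hM : M = Subgroup.normalizer (A : Set G)) :
    Cfsg.IsElementaryAbelian 2 A ∧ Nat.card A = 2 ^ 11 ∧
      ∃ _ : (A.subgroupOf M).Normal, Nonempty (↥M ⧸ A.subgroupOf M ≃* ↥Cfsg.M24) := by
  subst hM hA
  have hz := hF.1.1
  obtain ⟨g, hg⟩ := thompson_conj hF D T
  obtain ⟨-, hU⟩ := allUnique hF T
  refine ⟨hU.2.1, hU.2.2.1, quotient_of_conj hg ?_⟩
  obtain ⟨-, -, hcard, -⟩ := counts_AG hF D P
  refine H38.FiM24.exists_iso Subgroup.le_normalizer (fun _ hm _ ha => normalizer_conj_mem hm ha)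
    (fun _ ha _ hb => H33.FiLocal.ea_comm (ea_AG D hz) ha hb) (fun _ _ h => self_cent_AG hF D h)
    L φ hφ hbij {a : G | a ∈ AG D ∧ a ≠ 1 ∧ ¬ IsConj z a}
    (fun a => ⟨fun h => (hT a).1 ⟨h.2.1, h.2.2⟩, fun h => ⟨a.2, (hT a).2 h⟩⟩) ?_ ?_
  · rintro m hm a ⟨ha, ha1, hna⟩
    exact ⟨normalizer_conj_mem hm ha, fun e => ha1 (conj_eq_one_iff.1 e),
      fun e => hna (e.trans (isConj_iff.2 ⟨m⁻¹, by group⟩))⟩
  · rw [hcard, show 2 ^ 11 * 13601280 = 1771 * (2 ^ 20 * 15) by norm_num]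
    exact Nat.mul_dvd_mul_left _ (dvd_normalizer hF D)

end H59.Fi24
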