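import Cfsg.Agent.H59.Fischer.Thomp

/-!
The subgroup of lifts is its own centraliser, from the pointwise stabiliser of the fixed space.
-/

set_option autoImplicit false
set_option maxRecDepth 100000

namespace H59.Fi24

open H16.Fi24

universe u

variable {G : Type u} [Group G] [Finite G] {z : G}
  {Q : Subgroup (Subgroup.centralizer ({z} : Set G))} [Q.Normal]

theorem U_ne_zero : ∃ v : W, inU v ∧ v ≠ 0 := by
  obtain ⟨i, hi⟩ : ∃ i : Fin 6, ub i ≠ 0 := ⟨0, by decide +kernel⟩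
  exact ⟨ub i, (dual_U i.val i.2).1, hi⟩

/-- An element commuting with the subgroup of lifts lies in it. -/
theorem self_cent (hF : Cfsg.IsOfLargeFischerTypeAt z Q) (D : Model z Q)
    (hfix : ∀ x ∈ K0, (∀ v, inU v → x v = v) → x ∈ AA) {m : G}
    (hm : ∀ a ∈ AG D, m * a * m⁻¹ = a) : m ∈ AG D := by
  have hz := hF.1.1
  have hmz : m ∈ Subgroup.centralizer ({z} : Set G) :=
    Subgroup.mem_centralizer_singleton_iff.2 (mul_inv_eq_iff_eq_mul.1 (hm z (z_mem_AG D hz)))
  set c : Subgroup.centralizer ({z} : Set G) := ⟨m, hmz⟩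
  have hcomm : ∀ w ∈ CC D, c * w = w * c := fun w hw =>
    Subtype.ext (mul_inv_eq_iff_eq_mul.1 (hm w ((mem_AG D).2 hw)))
  have hU : ∀ v, inU v → D.ρ c v = v := by
    intro v hv
    obtain ⟨q, hq, rfl⟩ := D.surj v
    have hqC : q ∈ CC D := ((CC_inf_Q D).ge ⟨hq, hv⟩).1
    rw [D.conj c q hq, hcomm q hqC, mul_inv_cancel_right]
  have hcM : c ∈ D.M := by
    by_contra h
    obtain ⟨v, hv, hv0⟩ := U_ne_zero
    have h1 := anti hF D h v
    rw [hU v hv, hU _ (qf_U v hv).2] at h1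
    refine hv0 ?_
    have h2 := wW_sum v
    rw [← h1] at h2
    exact add_eq_left.1 h2
  exact (mem_AG D).2 ((mem_CC D).2 ⟨hfix _ (D.rho_mem c hcM) hU,
    fun w hw => hcomm w ((CC_inf_Q D).ge hw).1⟩)

end H59.Fi24
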