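import Cfsg.Agent.H59.Fischer.Local
import Cfsg.Agent.H16.Fi24.Exists
import Cfsg.Agent.H69.Setting
import Cfsg.Agent.H68.ExtraComm

/-!
Fusion excludes that an element outside the index two subgroup acts linearly: it is semilinear.
-/

set_option autoImplicit false
set_option maxRecDepth 100000

namespace H59.Fi24

open H16.Fi24

universe u

variable {G : Type u} [Group G] [Finite G] {z : G}
  {Q : Subgroup (Subgroup.centralizer ({z} : Set G))}

theorem sq_Q (D : Model z Q) {q : Subgroup.centralizer ({z} : Set G)} (hq : q ∈ Q) :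
    ((q : G) * q = 1 ∨ (q : G) * q = z) := by
  have h : D.Φ (q * q) = 0 := by
    rw [D.map_mul q hq q hq]
    funext i
    exact ZModModule.add_self _
  exact (D.eq_zero _ (mul_mem hq hq)).1 h

theorem comm_Q (D : Model z Q) {p q : Subgroup.centralizer ({z} : Set G)} (hp : p ∈ Q) (hq : q ∈ Q) :
    ((p : G) * q * (q * p : G)⁻¹ = 1 ∨ (p : G) * q * (q * p : G)⁻¹ = z) := by
  have h : D.Φ (p * q * (q * p)⁻¹) = 0 := by
    have hqp : (q * p) ∈ Q := mul_mem hq hp
    have h0 : D.Φ ((q * p) * (q * p)⁻¹) = D.Φ (q * p) + D.Φ (q * p)⁻¹ :=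
      D.map_mul _ hqp _ (inv_mem hqp)
    rw [mul_inv_cancel, (D.eq_zero 1 (one_mem _)).2 (Or.inl rfl), D.map_mul q hq p hp] at h0
    rw [D.map_mul _ (mul_mem hp hq) _ (inv_mem hqp), D.map_mul p hp q hq, add_comm (D.Φ p), ← h0]
  exact (D.eq_zero _ (mul_mem (mul_mem hp hq) (inv_mem (mul_mem hq hp)))).1 h

/-- An elementary subgroup of `Q` has at most 128 elements. -/
theorem card_elem_Q (D : Model z Q) (R : Subgroup (Subgroup.centralizer ({z} : Set G))) (hR : R ≤ Q)
    (hsq : ∀ r ∈ R, r * r = 1) : Nat.card R ≤ 128 := by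
  classical
  let f : R →* Multiplicative W := MonoidHom.mk' (fun r => Multiplicative.ofAdd (D.Φ r.1))
    (fun a b => congrArg Multiplicative.ofAdd (D.map_mul _ (hR a.2) _ (hR b.2)))
  let T : AddSubgroup W :=
    { carrier := {w | ∃ r ∈ R, D.Φ r = w}
      zero_mem' := ⟨1, one_mem _, (D.eq_zero 1 (one_mem _)).2 (Or.inl rfl)⟩
      add_mem' := by
        rintro a b ⟨r, hr, rfl⟩ ⟨s, hs, rfl⟩
        exact ⟨r * s, mul_mem hr hs, D.map_mul r (hR hr) s (hR hs)⟩
      neg_mem' := by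
        rintro a ⟨r, hr, rfl⟩
        exact ⟨r, hr, (ZModModule.neg_eq_self _).symm⟩ }
  have hT : ∀ t ∈ T, qf t = 0 := by
    rintro t ⟨r, hr, rfl⟩
    exact (D.sq r (hR hr)).1 (hsq r hr)
  have hker : Nat.card f.ker ≤ 2 := by
    have hinj : Function.Injective (fun r : f.ker => decide (((r.1.1 : _) : G) = 1)) := by
      intro a b e
      have ha : D.Φ a.1.1 = 0 := congrArg Multiplicative.toAdd a.2
      have hb : D.Φ b.1.1 = 0 := congrArg Multiplicative.toAdd b.2
      have hzne : ∀ {x : G}, x = z → x = 1 → False := by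
        intro x h1 h2
        have := (D.eq_zero 1 (one_mem Q)).2 (Or.inl rfl)
        obtain ⟨y, hy, hyne⟩ : ∃ y ∈ Q, D.Φ y ≠ 0 := by
          obtain ⟨y, hy, e'⟩ := D.surj (rep 2)
          exact ⟨y, hy, fun h => (show rep 2 ≠ 0 by decide +kernel) (e'.symm.trans h)⟩
        obtain ⟨y', hy', hne⟩ := D.exists_move hy hyne
        rcases comm_Q D hy hy' with h | h
        · exact hne (Subtype.ext (mul_inv_eq_one.1 h))
        · exact hne (Subtype.ext (mul_inv_eq_one.1 (h.trans (h1.symm.trans h2))))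
      simp only [decide_eq_decide] at e
      apply Subtype.ext; apply Subtype.ext; apply Subtype.ext
      rcases (D.eq_zero _ (hR a.1.2)).1 ha with ha1 | ha1 <;>
        rcases (D.eq_zero _ (hR b.1.2)).1 hb with hb1 | hb1
      · rw [ha1, hb1]
      · exact absurd (e.1 ha1) (fun h => hzne hb1 h)
      · exact absurd (e.2 hb1) (fun h => hzne ha1 h)
      · rw [ha1, hb1]
    exact (Nat.card_le_card_of_injective _ hinj).trans (by simp)
  have hrange : Nat.card f.range ≤ 64 := by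
    refine le_trans ?_ (card_totSing T hT)
    refine Nat.card_le_card_of_injective
      (fun x : f.range => (⟨Multiplicative.toAdd x.1, ?_⟩ : T)) ?_
    · obtain ⟨r, hr⟩ := x.2
      exact ⟨r.1, r.2, congrArg Multiplicative.toAdd hr⟩
    · intro a b e
      exact Subtype.ext (Multiplicative.toAdd.injective (congrArg (fun t : T => (t : W)) e))
  have h := f.ker.card_mul_index
  rw [Subgroup.index_ker] at h
  calc Nat.card R = Nat.card f.ker * Nat.card f.range := h.symm
    _ ≤ 2 * 64 := Nat.mul_le_mul hker hrange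
    _ = 128 := by norm_num

/-- Some conjugate of `z` in `Q`, other than `z`, has image a marked vector. -/
theorem exists_marked [Q.Normal] (D : Model z Q) (hz : orderOf z = 2) {g : G}
    (hs : g * z * g⁻¹ ∈ Subgroup.centralizer ({z} : Set G)) (hsQ : ⟨_, hs⟩ ∈ Q)
    (hne : g * z * g⁻¹ ≠ z) :
    ∃ (g' : G) (s' : Subgroup.centralizer ({z} : Set G)), s' ∈ Q ∧ (s' : G) = g' * z * g'⁻¹ ∧
      (s' : G) ≠ z ∧ (D.Φ s' = rep 2 ∨ D.Φ s' = rep 3) := by
  set s : Subgroup.centralizer ({z} : Set G) := ⟨_, hs⟩ with hsdef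
  have hord : orderOf s = 2 := by
    rw [← Subgroup.orderOf_coe]
    show orderOf (MulAut.conj g z) = 2
    rw [MulEquiv.orderOf_eq]; exact hz
  have hl := D.lab_involution hsQ hord hne
  obtain ⟨k, hk, ek⟩ := exists_to_rep _ hl
  obtain ⟨m, -, rfl⟩ := D.exists_rho hk
  refine ⟨(m : G) * g, m * s * m⁻¹, Subgroup.Normal.conj_mem inferInstance s hsQ m, ?_, ?_, ?_⟩
  · simp only [Subgroup.coe_mul, Subgroup.coe_inv, hsdef]
    group
  · intro h
    simp only [Subgroup.coe_mul, Subgroup.coe_inv, hsdef] at h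
    have hmz : (m : G) * z = z * m := Subgroup.mem_centralizer_singleton_iff.1 m.2
    refine hne ?_
    calc g * z * g⁻¹ = (m : G)⁻¹ * ((m : G) * (g * z * g⁻¹) * (m : G)⁻¹) * m := by group
      _ = (m : G)⁻¹ * z * m := by rw [h]
      _ = z := by rw [mul_assoc, ← hmz, ← mul_assoc, inv_mul_cancel, one_mul]
  · rw [← D.conj m s hsQ, ek]
    have := (lab_cases (D.Φ s)).2.1
    rcases (show lab (D.Φ s) = 2 ∨ lab (D.Φ s) = 3 by omega) with h | h <;> rw [h]
    · exact Or.inl rfl
    · exact Or.inr rfl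

/-- The intersection of a conjugate of `Q` with the centraliser of `z`. -/
theorem exists_conj_image [Q.Normal] (hF : Cfsg.IsOfLargeFischerTypeAt z Q) (D : Model z Q) {g : G}
    {s : Subgroup.centralizer ({z} : Set G)} (hsQ : s ∈ Q) (hsg : (s : G) = g * z * g⁻¹)
    (hne : (s : G) ≠ z) :
    ∃ E : Subgroup (Equiv.Perm W), E ≤ D.ρ.range ∧ (∀ a ∈ E, a * a = 1) ∧
      (∀ a ∈ E, ∀ b ∈ E, a * b = b * a) ∧ 32 ≤ Nat.card E ∧ (∀ a ∈ E, a (D.Φ s) = D.Φ s) ∧
      ∀ k ∈ K0stab (D.Φ s), ∀ a ∈ E, k * a * k⁻¹ ∈ E := by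
  classical
  obtain ⟨⟨hz, hFit, hext, hcardQ, -⟩, -⟩ := hF
  set Qm : Subgroup G := Q.map (Subgroup.centralizer ({z} : Set G)).subtype with hQm
  have hQC : Qm ≤ (Subgroup.centralizer ({z} : Set G)) := Subgroup.map_subtype_le Q
  have hFm : (Cfsg.generalizedFittingSubgroup ↥(Subgroup.centralizer ({z} : Set G))).map (Subgroup.centralizer ({z} : Set G)).subtype = Qm := by rw [hFit]
  have hextm : Cfsg.IsExtraspecial 2 ↥Qm :=
    H68.isExtraspecial_of_equiv (Q.equivMapOfInjective (Subgroup.centralizer ({z} : Set G)).subtype (Subgroup.centralizer ({z} : Set G)).subtype_injective) hext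
  obtain ⟨hpre, hcen, hnorm⟩ := H69.fstar_setting hz hQC hFm hextm
  have hsm : g * z * g⁻¹ ∈ Qm := ⟨s, hsQ, hsg⟩
  obtain ⟨a0, ⟨a, haQ, rfl⟩, hag⟩ := H69.lx_symm hpre hcen hz g hsm
  have haz : g * (a : G) * g⁻¹ = z := hag
  -- the subgroup
  set R : Subgroup (Subgroup.centralizer ({z} : Set G)) := (Qm.map (MulAut.conj g).toMonoidHom).subgroupOf (Subgroup.centralizer ({z} : Set G)) with hR
  have hmemR : ∀ h : (Subgroup.centralizer ({z} : Set G)), h ∈ R ↔ ∃ q ∈ Q, g * (q : G) * g⁻¹ = h := by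
    intro h
    rw [hR, Subgroup.mem_subgroupOf]
    constructor
    · rintro ⟨q', ⟨q, hq, rfl⟩, e⟩
      exact ⟨q, hq, e⟩
    · rintro ⟨q, hq, e⟩
      exact ⟨q, ⟨q, hq, rfl⟩, e⟩
  have hsR : ∀ h ∈ R, (h : G) * (s : G) = (s : G) * h := by
    intro h hh
    obtain ⟨q, -, e⟩ := (hmemR h).1 hh
    have hqz : (q : G) * z = z * q := Subgroup.mem_centralizer_singleton_iff.1 q.2
    rw [← e, hsg]
    calc g * (q : G) * g⁻¹ * (g * z * g⁻¹) = g * ((q : G) * z) * g⁻¹ := by group
      _ = g * (z * q) * g⁻¹ := by rw [hqz]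
      _ = g * z * g⁻¹ * (g * (q : G) * g⁻¹) := by group
  have hsqR : ∀ h ∈ R, (h : G) * h = 1 ∨ (h : G) * h = s := by
    intro h hh
    obtain ⟨q, hq, e⟩ := (hmemR h).1 hh
    rw [← e, show g * (q : G) * g⁻¹ * (g * q * g⁻¹) = g * ((q : G) * q) * g⁻¹ by group, hsg]
    rcases sq_Q D hq with h1 | h1 <;> rw [h1]
    · exact Or.inl (by group)
    · exact Or.inr rfl
  -- size of the subgroup
  have hΦa : D.Φ a ≠ 0 := by
    intro h0
    rcases (D.eq_zero a haQ).1 h0 with h | h
    · rw [h, mul_one, mul_inv_cancel] at haz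
      rw [← haz, orderOf_one] at hz; omega
    · rw [h, ← hsg] at haz
      exact hne haz
  let c : Q →* Multiplicative (ZMod 2) := MonoidHom.mk'
    (fun q => Multiplicative.ofAdd (Bf (D.Φ a) (D.Φ q.1)))
    (fun p q => by
      rw [← ofAdd_add, ← Bf_add_right]
      exact congrArg _ (congrArg _ (D.map_mul _ p.2 _ q.2)))
  have hcommQ : ∀ q : c.ker, g * ((q.1.1 : (Subgroup.centralizer ({z} : Set G))) : G) * g⁻¹ ∈ (Subgroup.centralizer ({z} : Set G)) := by
    intro q
    have h0 : Bf (D.Φ a) (D.Φ q.1.1) = 0 := congrArg Multiplicative.toAdd q.2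
    have h1 := congrArg (fun x : (Subgroup.centralizer ({z} : Set G)) => (x : G)) ((D.comm a haQ q.1.1 q.1.2).2 h0)
    simp only [Subgroup.coe_mul] at h1
    rw [Subgroup.mem_centralizer_singleton_iff]
    calc g * ((q.1.1 : (Subgroup.centralizer ({z} : Set G))) : G) * g⁻¹ * z = g * ((q.1.1 : (Subgroup.centralizer ({z} : Set G))) : G) * g⁻¹ * (g * (a : G) * g⁻¹) := by rw [haz]
      _ = g * ((q.1.1 : (Subgroup.centralizer ({z} : Set G))) * (a : G)) * g⁻¹ := by group
      _ = g * ((a : G) * (q.1.1 : (Subgroup.centralizer ({z} : Set G)))) * g⁻¹ := by rw [h1]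
      _ = g * (a : G) * g⁻¹ * (g * ((q.1.1 : (Subgroup.centralizer ({z} : Set G))) : G) * g⁻¹) := by group
      _ = z * (g * ((q.1.1 : (Subgroup.centralizer ({z} : Set G))) : G) * g⁻¹) := by rw [haz]
  have hcardR : 4096 ≤ Nat.card R := by
    have h := c.ker.card_mul_index
    rw [Subgroup.index_ker, hcardQ] at h
    have h2 : Nat.card c.range ≤ 2 := by
      refine (Subgroup.card_le_card_group _).trans ?_
      rw [Nat.card_eq_fintype_card]
      rfl
    have h3 : Nat.card c.ker ≤ Nat.card R := Nat.card_le_card_of_injective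
      (fun q : c.ker => (⟨⟨_, hcommQ q⟩, (hmemR _).2 ⟨q.1.1, q.1.2, rfl⟩⟩ : R)) (by
        intro p q e
        have e' : g * ((p.1.1 : (Subgroup.centralizer ({z} : Set G))) : G) * g⁻¹ = g * ((q.1.1 : (Subgroup.centralizer ({z} : Set G))) : G) * g⁻¹ :=
          congrArg (fun x : R => ((x.1 : (Subgroup.centralizer ({z} : Set G))) : G)) e
        exact Subtype.ext (Subtype.ext (Subtype.ext (mul_left_cancel (mul_right_cancel e')))))
    have h4 : 2 ^ (2 * 6 + 1) ≤ Nat.card c.ker * 2 := h ▸ Nat.mul_le_mul_left _ h2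
    omega
  have hRQ : Nat.card ↥(R ⊓ Q) ≤ 128 := by
    refine card_elem_Q D _ inf_le_right fun h hh => ?_
    apply Subtype.ext
    rcases hsqR h hh.1 with h1 | h1
    · exact h1
    · rcases sq_Q D hh.2 with h2 | h2
      · exact h2
      · exact absurd (h1.symm.trans h2) hne
  refine ⟨R.map D.ρ, fun x hx => ?_, ?_, ?_, ?_, ?_, ?_⟩
  · obtain ⟨h, -, rfl⟩ := hx; exact ⟨h, rfl⟩
  · rintro x ⟨h, hh, rfl⟩
    rw [← map_mul, ← MonoidHom.mem_ker, D.ker]
    rcases hsqR h hh with h1 | h1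
    · rw [show h * h = 1 from Subtype.ext h1]; exact one_mem _
    · rw [show h * h = s from Subtype.ext h1]; exact hsQ
  · rintro x ⟨h, hh, rfl⟩ y ⟨h', hh', rfl⟩
    rw [← mul_inv_eq_one, ← map_mul, ← map_mul, ← map_inv, ← map_mul, ← MonoidHom.mem_ker, D.ker]
    obtain ⟨q, hq, e⟩ := (hmemR h).1 hh
    obtain ⟨q', hq', e'⟩ := (hmemR h').1 hh'
    have hc : ((h * h' * (h' * h)⁻¹ : (Subgroup.centralizer ({z} : Set G))) : G) = g * ((q : G) * q' * (q' * q : G)⁻¹) * g⁻¹ := by
      simp only [Subgroup.coe_mul, Subgroup.coe_inv, ← e, ← e']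
      group
    rcases comm_Q D hq hq' with h1 | h1
    · rw [show h * h' * (h' * h)⁻¹ = 1 from Subtype.ext (by rw [hc, h1]; simp)]
      exact one_mem _
    · rw [show h * h' * (h' * h)⁻¹ = s from Subtype.ext (by rw [hc, h1, hsg])]
      exact hsQ
  · let f : R →* Equiv.Perm W := D.ρ.comp R.subtype
    have hrange : f.range = R.map D.ρ := by
      rw [MonoidHom.range_comp, Subgroup.range_subtype]
    have hk : Nat.card f.ker ≤ 128 := by
      refine le_trans (Nat.card_le_card_of_injective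
        (fun x : f.ker => (⟨x.1.1, x.1.2, D.ker ▸ x.2⟩ : ↥(R ⊓ Q))) ?_) hRQ
      intro x y e
      dsimp only at e
      have e' : x.1.1 = y.1.1 := congrArg (fun t : ↥(R ⊓ Q) => t.1) e
      exact Subtype.ext (Subtype.ext e')
    have h := f.ker.card_mul_index
    rw [Subgroup.index_ker, hrange] at h
    have h5 : Nat.card R ≤ 128 * Nat.card ↥(R.map D.ρ) := h ▸ Nat.mul_le_mul_right _ hk
    omega
  · rintro x ⟨h, hh, rfl⟩
    rw [D.conj h s hsQ]
    congr 1
    apply Subtype.ext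
    simp only [Subgroup.coe_mul, Subgroup.coe_inv]
    rw [hsR h hh, mul_assoc, mul_inv_cancel, mul_one]
  · intro k hk x hx
    obtain ⟨h, hh, rfl⟩ := hx
    obtain ⟨hk0, hks⟩ := mem_K0stab.1 hk
    obtain ⟨m0, -, hm0⟩ := D.exists_rho hk0
    -- a lift commuting with `s`
    obtain ⟨m, hm, hms⟩ : ∃ m : (Subgroup.centralizer ({z} : Set G)), D.ρ m = k ∧ (m : G) * s * (m : G)⁻¹ = s := by
      have hΦ : D.Φ (m0 * s * m0⁻¹) = D.Φ s := by rw [← D.conj m0 s hsQ, hm0, hks]
      rcases D.eq_or_mul (Subgroup.Normal.conj_mem inferInstance s hsQ m0) hsQ hΦ with e | e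
      · exact ⟨m0, hm0, by simpa using e⟩
      · have hord : (s : G) ≠ 1 := by
          intro h1
          rw [hsg, conj_eq_one_iff] at h1
          rw [h1, orderOf_one] at hz; omega
        obtain ⟨y, hy, hys⟩ := D.exists_move hsQ (fun h0 => by
          rcases (D.eq_zero s hsQ).1 h0 with h1 | h1
          · exact hord h1
          · exact hne h1)
        refine ⟨y * m0, by
          rw [map_mul, show D.ρ y = 1 from MonoidHom.mem_ker.1 (D.ker.symm ▸ hy), one_mul, hm0], ?_⟩
        have hzy : (y : G) * z = z * y := Subgroup.mem_centralizer_singleton_iff.1 y.2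
        have hys' : (y : G) * s * (y : G)⁻¹ = s * z := by
          rcases comm_Q D hy hsQ with h1 | h1
          · exact absurd (Subtype.ext (mul_inv_eq_one.1 h1)).symm hys
          · rw [mul_inv_eq_iff_eq_mul] at h1
            rw [h1, mul_inv_eq_iff_eq_mul]
            have hsz : (s : G) * z = z * s := Subgroup.mem_centralizer_singleton_iff.1 s.2
            rw [hsz, mul_assoc]
        have e' : (m0 : G) * s * (m0 : G)⁻¹ = s * z := by simpa using e
        have hzz : z * z = 1 := by rw [← pow_two, ← hz, pow_orderOf_eq_one]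
        simp only [Subgroup.coe_mul]
        calc (y : G) * m0 * s * ((y : G) * m0)⁻¹ = (y : G) * ((m0 : G) * s * (m0 : G)⁻¹) * (y : G)⁻¹ := by group
          _ = (y : G) * (s * z) * (y : G)⁻¹ := by rw [e']
          _ = (y : G) * s * (z * (y : G)⁻¹) := by group
          _ = (y : G) * s * ((y : G)⁻¹ * z) := by
            rw [(show Commute (y : G) z from hzy).inv_left.eq]
          _ = (y : G) * s * (y : G)⁻¹ * z := by group
          _ = s := by rw [hys', mul_assoc, hzz, mul_one]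
    refine ⟨m * h * m⁻¹, ?_, by rw [map_mul, map_mul, map_inv, hm]⟩
    obtain ⟨q, hq, e⟩ := (hmemR h).1 hh
    have hcz : (g⁻¹ * m * g : G) * z = z * (g⁻¹ * m * g) := by
      have h1 : (m : G) * s = s * m := mul_inv_eq_iff_eq_mul.1 hms
      rw [hsg] at h1
      calc g⁻¹ * (m : G) * g * z = g⁻¹ * ((m : G) * (g * z * g⁻¹)) * g := by group
        _ = g⁻¹ * ((g * z * g⁻¹) * m) * g := by rw [h1]
        _ = z * (g⁻¹ * m * g) := by group
    obtain ⟨q', hq', e'⟩ := hnorm _ hcz (q : G) ⟨q, hq, rfl⟩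
    refine (hmemR _).2 ⟨q', hq', ?_⟩
    have e2 : (q' : G) = g⁻¹ * m * g * q * (g⁻¹ * m * g)⁻¹ := e'
    simp only [Subgroup.coe_mul, Subgroup.coe_inv, e2, ← e]
    group

theorem wW_add (u v : W) : wW (u + v) = wW u + wW v := funext fun _ => mu_add _ _ _

/-- An element outside `M` is semilinear. -/
theorem anti [Q.Normal] (hF : Cfsg.IsOfLargeFischerTypeAt z Q) (D : Model z Q)
    {h : Subgroup.centralizer ({z} : Set G)} (hh : h ∉ D.M) (v : W) :
    D.ρ h (wW v) = wW (wW (D.ρ h v)) := by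
  rcases D.scal h with hlin | hsemi
  swap; · exact hsemi v
  exfalso
  have hz := hF.1.1
  obtain ⟨g, ⟨hs, hsQ⟩, hne⟩ := hF.1.2.2.2.2
  obtain ⟨g', s, hsQ', hsg, hsne, hrep⟩ := exists_marked D hz hs hsQ hne
  obtain ⟨E, hEr, hEsq, hEcomm, hE32, hEfix, hEnorm⟩ := exists_conj_image hF D hsQ' hsg hsne
  have hall : ∀ e ∈ D.ρ.range, IsUni e := by
    rintro e ⟨x, rfl⟩
    refine ⟨D.rho_add x, ?_, D.rho_qf x⟩
    by_cases hx : x ∈ D.M
    · exact (isUni_K0 (D.rho_mem x hx)).wcomm
    · have hxm : h⁻¹ * x ∈ D.M := by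
        rw [Subgroup.mul_mem_iff_of_index_two D.index_M, inv_mem_iff]
        exact iff_of_false hh hx
      intro u
      have e : D.ρ x = D.ρ h * D.ρ (h⁻¹ * x) := by rw [← map_mul, mul_inv_cancel_left]
      rw [e, Equiv.Perm.mul_apply, Equiv.Perm.mul_apply, (isUni_K0 (D.rho_mem _ hxm)).wcomm, hlin]
  set E0 := E ⊓ K0 with hE0
  have hdiff : ∀ a ∈ E, ∀ b ∈ E, a ∉ K0 → b ∉ K0 → a * b ∈ E0 := by
    intro a ha b hb ha0 hb0
    refine ⟨mul_mem ha hb, ?_⟩
    obtain ⟨x, rfl⟩ := hEr ha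
    obtain ⟨y, rfl⟩ := hEr hb
    rw [← map_mul]
    refine D.rho_mem _ ?_
    rw [Subgroup.mul_mem_iff_of_index_two D.index_M]
    exact iff_of_false (fun hx => ha0 (D.rho_mem x hx)) (fun hy => hb0 (D.rho_mem y hy))
  have hcard : 16 ≤ Nat.card E0 := by
    by_contra hlt
    have hex : ∃ e0 ∈ E, e0 ∉ K0 := by
      by_contra hno
      push Not at hno
      have : E0 = E := inf_eq_left.2 hno
      rw [this] at hlt; omega
    obtain ⟨e0, he0, he0'⟩ := hex
    classical
    have hle : Nat.card E ≤ Nat.card (E0 × Bool) := Nat.card_le_card_of_injective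
      (fun x : E => if hx : x.1 ∈ K0 then ((⟨x.1, x.2, hx⟩ : E0), true)
        else ((⟨e0 * x.1, hdiff e0 he0 x.1 x.2 he0' hx⟩ : E0), false)) (by
        intro x y e
        dsimp only at e
        split_ifs at e <;>
          simp only [Prod.mk.injEq, Subtype.mk.injEq, Bool.false_eq_true, Bool.true_eq_false, and_false,
            and_true, mul_right_inj] at e
        all_goals first
          | exact Subtype.ext e
          | exact Subtype.ext (mul_left_cancel (congrArg (fun t : E0 => (t : Equiv.Perm W)) e))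
          | exact Subtype.ext (by simpa using congrArg (fun t : E0 => (t : Equiv.Perm W)) e))
    rw [Nat.card_prod, show Nat.card Bool = 2 by simp] at hle
    omega
  have hE2 : IsPGroup 2 E0 := fun x => ⟨1, Subtype.ext (by rw [pow_one, pow_two]; exact hEsq x.1 x.2.1)⟩
  have hsub : ∀ x ∈ E0, x ∈ K0stab (D.Φ s) := fun x hx => mem_K0stab.2 ⟨hx.2, hEfix x hx.1⟩
  have hnormal : ∀ k ∈ K0stab (D.Φ s), ∀ n ∈ E0, k * n * k⁻¹ ∈ E0 := fun k hk n hn =>
    ⟨hEnorm k hk n hn.1, mul_mem (mul_mem (mem_K0stab.1 hk).1 hn.2) (K0.inv_mem (mem_K0stab.1 hk).1)⟩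
  rcases hrep with hr | hr <;> rw [hr] at hsub hnormal hEfix
  · have := eq_bot_of_normal D.card_K0 hsub hE2 hnormal
    rw [this, Subgroup.card_bot] at hcard
    omega
  · have hNN : E0 = NN := Subgroup.eq_of_le_of_card_ge (le_NN_of_normal D.card_K0 hsub hE2 hnormal)
      (card_NN ▸ hcard)
    obtain ⟨e, he, he'⟩ : ∃ e ∈ E, e ∉ K0 := by
      by_contra hno
      push Not at hno
      have hE : E0 = E := inf_eq_left.2 hno
      rw [← hE, hNN, card_NN] at hE32
      omega
    refine he' (mem_K0_of_commute_NN (hall e (hEr he)) (hEfix e he) ?_ fun n hn => ?_)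
    · obtain ⟨x, rfl⟩ := hEr he
      exact D.rho_lab x
    · exact hEcomm e he n ((hNN.symm ▸ hn : n ∈ E0).1)

end H59.Fi24
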