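import Cfsg.Agent.H59.Fischer.Max
import Cfsg.Prelude.Def_MonsterType

/-!
The unique largest elementary abelian subgroup of a Sylow 2-subgroup of the centraliser.
-/

set_option autoImplicit false
set_option maxRecDepth 100000

namespace H59.Fi24

open H16.Fi24

universe u

variable {G : Type u} [Group G] [Finite G] {z : G}
  {Q : Subgroup (Subgroup.centralizer ({z} : Set G))}

theorem ea_iff {X : Type*} [Group X] {B : Subgroup X} : Cfsg.IsElementaryAbelian 2 B ↔
    (∀ b ∈ B, b * b = 1) ∧ ∀ a ∈ B, ∀ b ∈ B, a * b = b * a :=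
  ⟨fun h => ⟨fun b hb => by rw [← pow_two]; exact h.2 b hb,
      fun a ha b hb => congrArg Subtype.val (h.1.is_comm.comm ⟨a, ha⟩ ⟨b, hb⟩)⟩,
    fun h => ⟨⟨⟨fun a b => Subtype.ext (h.2 a.1 a.2 b.1 b.2)⟩⟩,
      fun a ha => by rw [pow_two]; exact h.1 a ha⟩⟩

variable [Q.Normal]

theorem card_CC_image (D : Model z Q) (hz : orderOf z = 2) : Nat.card ↥((CC D).map D.ρ) = 16 := by
  have h := card_split D (CC D)
  rw [CC_inf_Q, card_CC D hz, card_Wt D hz] at h
  omega

/-- A conjugate of the subgroup of lifts inside a Sylow subgroup, with its uniqueness and orders. -/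
theorem sylow_max (hF : Cfsg.IsOfLargeFischerTypeAt z Q) (D : Model z Q)
    (T : Sylow 2 ↥(Subgroup.centralizer ({z} : Set G))) :
    ∃ B : Subgroup (Subgroup.centralizer ({z} : Set G)),
      B ≤ (T : Subgroup (Subgroup.centralizer ({z} : Set G))) ∧ Cfsg.IsElementaryAbelian 2 B ∧
      Nat.card B = 2048 ∧ B ≤ D.M ∧ Nat.card ↥(B ⊓ Q) = 128 ∧ Nat.card ↥(B.map D.ρ) = 16 ∧
      (∃ m ∈ D.M, B.map (MulAut.conj m).toMonoidHom = CC D) ∧
      ∀ B' : Subgroup (Subgroup.centralizer ({z} : Set G)),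
        B' ≤ (T : Subgroup (Subgroup.centralizer ({z} : Set G))) → Cfsg.IsElementaryAbelian 2 B' →
        2048 ≤ Nat.card B' → B' = B := by
  have := Fact.mk Nat.prime_two
  have hz := hF.1.1
  have hCC : IsPGroup 2 ↥(CC D) := IsPGroup.of_card (n := 11) (by rw [card_CC D hz]; norm_num)
  obtain ⟨S, hS⟩ := hCC.exists_le_sylow
  obtain ⟨g, hg⟩ := MulAction.exists_smul_eq (Subgroup.centralizer ({z} : Set G)) S T
  set B := (CC D).map (MulAut.conj g).toMonoidHom with hB
  have hBT : B ≤ (T : Subgroup (Subgroup.centralizer ({z} : Set G))) := by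
    rw [← hg, Sylow.coe_subgroup_smul, hB]
    exact Subgroup.map_mono hS
  have hBea : Cfsg.IsElementaryAbelian 2 B := by
    obtain ⟨h1, h2⟩ := elem_CC D hz
    refine ea_iff.2 ⟨?_, ?_⟩
    · rintro _ ⟨b, hb, rfl⟩
      rw [← _root_.map_mul, h1 b hb, _root_.map_one]
    · rintro _ ⟨a, ha, rfl⟩ _ ⟨b, hb, rfl⟩
      rw [← _root_.map_mul, ← _root_.map_mul, h2 a ha b hb]
  have hBc : Nat.card B = 2048 := by
    rw [hB, Subgroup.card_map_of_injective (f := (MulAut.conj g).toMonoidHom) (MulAut.conj g).injective,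
      card_CC D hz]
  clear_value B
  clear hB
  set E := ((T : Subgroup (Subgroup.centralizer ({z} : Set G))) ⊓ D.M).map D.ρ with hE
  obtain ⟨k, hk, hkP⟩ := exists_conj_PP D.card_K0 (B := E)
    (by rintro _ ⟨x, hx, rfl⟩; exact D.rho_mem x hx.2) ((T.isPGroup'.to_le inf_le_left).map D.ρ)
  obtain ⟨m, hmM, rfl⟩ := D.exists_rho hk
  have huniq : ∀ B' : Subgroup (Subgroup.centralizer ({z} : Set G)),
      B' ≤ (T : Subgroup (Subgroup.centralizer ({z} : Set G))) → Cfsg.IsElementaryAbelian 2 B' →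
      2048 ≤ Nat.card B' → B' ≤ D.M ∧ B'.map (MulAut.conj m).toMonoidHom = CC D := by
    intro B' hle hea hc
    obtain ⟨h1, h2⟩ := ea_iff.1 hea
    have hM := le_M_of_large hF D h1 h2 hc
    exact ⟨hM, (conj_eq_CC hF D h1 h2 hc fun b hb =>
      hkP _ ⟨b, ⟨hle hb, hM hb⟩, rfl⟩).1⟩
  obtain ⟨hBM, hBm⟩ := huniq B hBT hBea hBc.ge
  have hBimg : Nat.card ↥(B.map D.ρ) = 16 := by
    rw [← card_CC_image D hz, ← hBm, Subgroup.map_map,
      show D.ρ.comp (MulAut.conj m).toMonoidHom = (MulAut.conj (D.ρ m)).toMonoidHom.comp D.ρ from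
        MonoidHom.ext fun x => by simp,
      ← Subgroup.map_map,
      Subgroup.card_map_of_injective (f := (MulAut.conj (D.ρ m)).toMonoidHom) (MulAut.conj _).injective]
  have hBQ : Nat.card ↥(B ⊓ Q) = 128 := by
    have h := card_split D B
    rw [hBc, hBimg] at h
    omega
  refine ⟨B, hBT, hBea, hBc, hBM, hBQ, hBimg, ⟨m, hmM, hBm⟩, fun B' hle hea hc => ?_⟩
  exact Subgroup.map_injective (f := (MulAut.conj m).toMonoidHom) (MulAut.conj m).injective
    ((huniq B' hle hea hc).2.trans hBm.symm)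

/-- The statement inside the Sylow subgroup. -/
theorem sylow_unique (hF : Cfsg.IsOfLargeFischerTypeAt z Q)
    (T : Sylow 2 ↥(Subgroup.centralizer ({z} : Set G))) :
    ∃ A : Subgroup ↥(T : Subgroup (Subgroup.centralizer ({z} : Set G))),
      Cfsg.maxElementaryAbelianSubgroups 2 ↥(T : Subgroup (Subgroup.centralizer ({z} : Set G))) = {A} ∧
      Nat.card A = 2 ^ 11 ∧
      Nat.card ↥(A.map (T : Subgroup (Subgroup.centralizer ({z} : Set G))).subtype ⊓ Q) = 2 ^ 7 ∧
      Nat.card ↥((A.map (T : Subgroup (Subgroup.centralizer ({z} : Set G))).subtype).map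
        (QuotientGroup.mk' Q)) = 16 := by
  obtain ⟨D⟩ := nonempty_model hF
  obtain ⟨B, hBT, hBea, hBc, -, hBQ, hBimg, -, huniq⟩ := sylow_max hF D T
  set P := (T : Subgroup (Subgroup.centralizer ({z} : Set G))) with hP
  have hmap : (B.subgroupOf P).map P.subtype = B := Subgroup.map_subgroupOf_eq_of_le hBT
  have hAc : Nat.card ↥(B.subgroupOf P) = 2048 := by
    rw [Nat.card_congr (Subgroup.subgroupOfEquivOfLe hBT).toEquiv, hBc]
  obtain ⟨h1, h2⟩ := ea_iff.1 hBea
  have hAea : Cfsg.IsElementaryAbelian 2 (B.subgroupOf P) := ea_iff.2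
    ⟨fun b hb => Subtype.ext (h1 _ hb), fun a ha b hb => Subtype.ext (h2 _ ha _ hb)⟩
  have key : ∀ C : Subgroup ↥P, Cfsg.IsElementaryAbelian 2 C → 2048 ≤ Nat.card C →
      C = B.subgroupOf P := by
    intro C hC hc
    obtain ⟨c1, c2⟩ := ea_iff.1 hC
    have := huniq (C.map P.subtype) (Subgroup.map_subtype_le C) (ea_iff.2
      ⟨by rintro _ ⟨b, hb, rfl⟩; exact congrArg Subtype.val (c1 b hb),
       by rintro _ ⟨a, ha, rfl⟩ _ ⟨b, hb, rfl⟩; exact congrArg Subtype.val (c2 a ha b hb)⟩)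
      (by rwa [Subgroup.card_map_of_injective (f := P.subtype) P.subtype_injective])
    rw [← this]
    exact (Subgroup.comap_map_eq_self_of_injective P.subtype_injective C).symm
  refine ⟨B.subgroupOf P, ?_, by rw [hAc]; norm_num, by rw [hmap, hBQ]; norm_num, ?_⟩
  · ext C
    constructor
    · rintro ⟨hC, hmax⟩
      exact key C hC (hAc ▸ hmax _ hAea)
    · rintro rfl
      refine ⟨hAea, fun C hC => ?_⟩
      rcases le_or_gt 2048 (Nat.card C) with h | h
      · rw [key C hC h]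
      · rw [hAc]; exact h.le
  · rw [hmap, ← hBimg, ← Subgroup.relIndex_ker, ← Subgroup.relIndex_ker, QuotientGroup.ker_mk', D.ker]

end H59.Fi24
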